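import Groth.Agent.L00.PullStalk
import Groth.Agent.L00.StalkFunctor
import Groth.Agent.L21.Mod.Stalks
import Groth.Agent.L17.CohSections
import Groth.Agent.L17.AcyclicHomology
import Mathlib.AlgebraicGeometry.Morphisms.Flat
import Mathlib.Algebra.Category.ModuleCat.Descent
import Mathlib.Algebra.Homology.ShortComplex.HomologicalComplex
import Mathlib.CategoryTheory.Abelian.Injective.Resolution

/-!
Tools: exactness of flat pullback, chain maps into injective resolutions, classes of sections of cycles
in the homology of complexes of modules.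
-/

set_option autoImplicit false
set_option linter.style.haveILetI false
set_option backward.defeqAttrib.useBackward true
set_option backward.isDefEq.respectTransparency false
set_option backward.isDefEq.respectTransparency.types false

universe v u v' u'

open CategoryTheory CategoryTheory.Limits AlgebraicGeometry TopologicalSpace Opposite
noncomputable section

namespace Groth.L17.CxTools

section Lift

variable {C : Type u} [Category.{v} C] [Abelian C]

theorem exists_chainMap {K L : CochainComplex C ℕ} [∀ n, Injective (L.X n)] {P : C} (i : P ⟶ K.X 0) [Mono i]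
    (hi : i ≫ K.d 0 1 = 0) (hex₀ : (ShortComplex.mk i (K.d 0 1) hi).Exact)
    (hex : ∀ n, (ShortComplex.mk _ _ (K.d_comp_d n (n + 1) (n + 2))).Exact)
    (j : P ⟶ L.X 0) (hj : j ≫ L.d 0 1 = 0) : ∃ φ : K ⟶ L, i ≫ φ.f 0 = j := by
  let a₀ : K.X 0 ⟶ L.X 0 := Injective.factorThru j i
  have h₀ : i ≫ (a₀ ≫ L.d 0 1) = 0 := by rw [Injective.comp_factorThru_assoc, hj]
  let a₁ : K.X 1 ⟶ L.X 1 := hex₀.descToInjective (a₀ ≫ L.d 0 1) h₀
  refine ⟨CochainComplex.mkHom K L a₀ a₁ (hex₀.comp_descToInjective _ _).symm fun n ⟨g, g', w⟩ =>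
    ⟨(hex n).descToInjective (g' ≫ L.d (n + 1) (n + 2)) ?_, ((hex n).comp_descToInjective _ _).symm⟩,
    Injective.comp_factorThru _ _⟩
  rw [← reassoc_of% w, L.d_comp_d, comp_zero]

variable {D : Type u'} [Category.{v'} D] [Abelian D] (G : C ⥤ D) [G.Additive]
  [PreservesFiniteLimits G] [PreservesFiniteColimits G] (K : CochainComplex C ℕ) (n : ℕ)

/-- Cycles of the image under an exact functor. -/
def cyclesI : (((G.mapHomologicalComplex _).obj K).sc n).cycles ≅ G.obj (K.sc n).cycles :=
  ((K.sc n).leftHomologyData.map G).cyclesIso ≪≫ G.mapIso (K.sc n).leftHomologyData.cyclesIso.symm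

/-- Homology of the image under an exact functor. -/
def homologyI : (((G.mapHomologicalComplex _).obj K).sc n).homology ≅ G.obj (K.sc n).homology :=
  ((K.sc n).leftHomologyData.map G).homologyIso ≪≫ G.mapIso (K.sc n).leftHomologyData.homologyIso.symm

theorem π_homologyI : (((G.mapHomologicalComplex _).obj K).sc n).homologyπ ≫ (homologyI G K n).hom =
    (cyclesI G K n).hom ≫ G.map (K.sc n).homologyπ := by
  have h := (K.sc n).leftHomologyData
  simp only [homologyI, cyclesI, Iso.trans_hom, Functor.mapIso_hom, Iso.symm_hom, Category.assoc]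
  erw [ShortComplex.LeftHomologyData.homologyπ_comp_homologyIso_hom_assoc]
  rw [← G.map_comp, ShortComplex.LeftHomologyData.map_π, ← G.map_comp]
  congr 2
  rw [ShortComplex.LeftHomologyData.π_comp_homologyIso_inv]

theorem cyclesI_iCycles : (cyclesI G K n).hom ≫ G.map (K.sc n).iCycles =
    (((G.mapHomologicalComplex _).obj K).sc n).iCycles := by
  simp only [cyclesI, Iso.trans_hom, Functor.mapIso_hom, Iso.symm_hom, Category.assoc, ← G.map_comp,
    ShortComplex.LeftHomologyData.cyclesIso_inv_comp_iCycles]
  exact ShortComplex.LeftHomologyData.cyclesIso_hom_comp_i ((K.sc n).leftHomologyData.map G)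

end Lift

section Pullback

variable {X Y : Scheme.{u}} (f : X ⟶ Y)

theorem preservesFiniteColimits_pullback : PreservesFiniteColimits (Scheme.Modules.pullback f) :=
  haveI : PreservesColimitsOfSize.{0, 0} (Scheme.Modules.pullback f) :=
    (Scheme.Modules.pullbackPushforwardAdjunction f).leftAdjoint_preservesColimits
  PreservesColimitsOfSize.preservesFiniteColimits.{0, 0} _

theorem additive_pullback : (Scheme.Modules.pullback f).Additive :=
  (Scheme.Modules.pullbackPushforwardAdjunction f).left_adjoint_additive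

theorem preservesFiniteLimits_pullback [Flat f] : PreservesFiniteLimits (Scheme.Modules.pullback f) := by
  have hstk : ∀ x, PreservesFiniteLimits (Scheme.Modules.pullback f ⋙ Groth.L00.Stk.F X x) := fun x => by
    haveI : PreservesFiniteLimits (ModuleCat.extendScalars.{u, u, u} (Groth.L00.PullStalk.φ f x)) :=
      ModuleCat.preservesFiniteLimits_extendScalars_of_flat (AlgebraicGeometry.Flat.stalkMap f x)
    exact preservesFiniteLimits_of_natIso (Groth.L00.PullStalk.stalkIso f x).symm
  haveI := additive_pullback f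
  haveI := preservesFiniteColimits_pullback f
  haveI : (Scheme.Modules.pullback f).PreservesMonomorphisms := ⟨fun {M N} i _ => by
    refine (Groth.L21.Mod.mono_iff_stalk_injective _).2 fun x => ?_
    haveI := hstk x
    haveI : Mono ((Scheme.Modules.pullback f ⋙ Groth.L00.Stk.F X x).map i) := inferInstance
    exact (ModuleCat.mono_iff_injective ((Groth.L00.Stk.F X x).map ((Scheme.Modules.pullback f).map i))).1 this⟩
  refine (Functor.preservesFiniteLimits_iff_forall_exact_map_and_mono _).2 fun S hS => ?_
  have := hS.mono_f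
  haveI : (Scheme.Modules.pullback f).PreservesHomology :=
    (Scheme.Modules.pullback f).preservesHomology_of_preservesMonos_and_cokernels
  exact ⟨hS.exact.map _, inferInstance⟩

end Pullback

section Classes

open Groth.L18.Frame (rs pull)

variable {X : Scheme.{u}}

/-- `h` is the class of the section `s`. -/
def IsClass (K : CochainComplex X.Modules ℕ) (n : ℕ) (U : X.Opens) (s : Γ(K.X n, U))
    (h : Γ(K.homology n, U)) : Prop :=
  ∃ z : Γ(K.cycles n, U), (K.iCycles n).app U z = s ∧ (K.homologyπ n).app U z = h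

theorem app_comp {M N P : X.Modules} (a : M ⟶ N) (b : N ⟶ P) (U : X.Opens) (m : Γ(M, U)) :
    (a ≫ b).app U m = b.app U (a.app U m) := rfl

theorem injective_app {M N : X.Modules} (a : M ⟶ N) [Mono a] (U : X.Opens) : Function.Injective (a.app U) := by
  haveI : PreservesFiniteLimits (SheafOfModules.toSheaf.{u} X.ringCatSheaf) :=
    inferInstanceAs (PreservesFiniteLimits (Groth.L21.Mod.toAbSh X))
  haveI : Mono ((SheafOfModules.toSheaf.{u} X.ringCatSheaf).map a) := inferInstance
  exact Groth.L17.injective_app_of_mono (X := X.toTopCat) ((SheafOfModules.toSheaf.{u} X.ringCatSheaf).map a) U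

variable {K L : CochainComplex X.Modules ℕ} {n : ℕ} {U : X.Opens} {s : Γ(K.X n, U)} {h : Γ(K.homology n, U)}

theorem IsClass.map (φ : K ⟶ L) (hs : IsClass K n U s h) :
    IsClass L n U ((φ.f n).app U s) ((HomologicalComplex.homologyMap φ n).app U h) := by
  obtain ⟨z, rfl, rfl⟩ := hs
  exact ⟨(HomologicalComplex.cyclesMap φ n).app U z,
    congr($(congrArg (fun k => Scheme.Modules.Hom.app k U) (HomologicalComplex.cyclesMap_i φ n)) z),
    congr($(congrArg (fun k => Scheme.Modules.Hom.app k U) (HomologicalComplex.homologyπ_naturality φ n)) z).symm⟩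

theorem IsClass.unique {h' : Γ(K.homology n, U)} (hs : IsClass K n U s h) (hs' : IsClass K n U s h') : h = h' := by
  obtain ⟨z, hz, rfl⟩ := hs
  obtain ⟨z', hz', rfl⟩ := hs'
  rw [injective_app (K.iCycles n) U (hz.trans hz'.symm)]

theorem IsClass.res {V : X.Opens} (e : V ≤ U) (hs : IsClass K n U s h) :
    IsClass K n V (rs _ e s) (rs _ e h) := by
  obtain ⟨z, rfl, rfl⟩ := hs
  exact ⟨rs _ e z, congr($((K.iCycles n).mapPresheaf.naturality (homOfLE e).op) z),
    congr($((K.homologyπ n).mapPresheaf.naturality (homOfLE e).op) z)⟩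

theorem IsClass.add {s' : Γ(K.X n, U)} {h' : Γ(K.homology n, U)} (hs : IsClass K n U s h)
    (hs' : IsClass K n U s' h') : IsClass K n U (s + s') (h + h') := by
  obtain ⟨z, rfl, rfl⟩ := hs
  obtain ⟨z', rfl, rfl⟩ := hs'
  exact ⟨z + z', map_add _ _ _, map_add _ _ _⟩

theorem IsClass.smul (a : Γ(X, U)) (hs : IsClass K n U s h) : IsClass K n U (a • s) (a • h) := by
  obtain ⟨z, rfl, rfl⟩ := hs
  exact ⟨a • z, (K.iCycles n).app_smul a z, (K.homologyπ n).app_smul a z⟩

theorem isClass_zero : IsClass K n U 0 0 := ⟨0, map_zero _, map_zero _⟩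

theorem IsClass.d_eq_zero (hs : IsClass K n U s h) : (K.d n (n + 1)).app U s = 0 := by
  obtain ⟨z, rfl, rfl⟩ := hs
  rw [← app_comp, K.iCycles_d n (n + 1)]
  rfl

theorem exists_isClass (hd : (K.d n (n + 1)).app U s = 0) : ∃ h, IsClass K n U s h := by
  have hk : (((ShortComplex.mk _ _ (K.iCycles_d n (n + 1))).map (CohSections.secF U))).Exact :=
    ShortComplex.exact_of_f_is_kernel _
      (KernelFork.mapIsLimit _ (K.cyclesIsKernel n (n + 1) (by simp)) (CohSections.secF U))
  rw [ShortComplex.ab_exact_iff] at hk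
  let e := Groth.L10.SiteCoh.secEquiv (Opens.grothendieckTopology X) U
  obtain ⟨y, hy⟩ := hk ((e (Coh.toAb (K.X n))).symm s) (by
    apply (e (Coh.toAb (K.X (n + 1)))).injective
    refine (Groth.L10.SiteCoh.secEquiv_comp _ _).trans ?_
    rw [AddEquiv.apply_symm_apply, map_zero]
    exact hd)
  refine ⟨(K.homologyπ n).app U (e (Coh.toAb (K.cycles n)) y), _, ?_, rfl⟩
  refine (Groth.L10.SiteCoh.secEquiv_comp y ((SheafOfModules.toSheaf.{u} X.ringCatSheaf).map (K.iCycles n))).symm.trans ?_
  exact (congrArg (e (Coh.toAb (K.X n))) hy).trans (AddEquiv.apply_symm_apply _ _)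

theorem isClass_d (p : ℕ) (y : Γ(K.X p, U)) : IsClass K n U ((K.d p n).app U y) 0 := by
  refine ⟨(K.toCycles p n).app U y, ?_, ?_⟩
  · rw [← app_comp, K.toCycles_i]
  · rw [← app_comp, K.toCycles_comp_homologyπ]; rfl

variable {Y : Scheme.{u}} (g : Y ⟶ X)

theorem pull_app {M N : X.Modules} (φ : M ⟶ N) (U : X.Opens) (m : Γ(M, U)) :
    ((Scheme.Modules.pullback g).map φ).app (g ⁻¹ᵁ U) (pull g M U m) = pull g N U (φ.app U m) :=
  (congr($(congrArg (fun k => Scheme.Modules.Hom.app k U)
    ((Scheme.Modules.pullbackPushforwardAdjunction g).unit.naturality φ)) m)).symm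

attribute [local instance] preservesFiniteColimits_pullback additive_pullback

theorem IsClass.pullback [PreservesFiniteLimits (Scheme.Modules.pullback g)] (hs : IsClass K n U s h) :
    IsClass (((Scheme.Modules.pullback g).mapHomologicalComplex _).obj K) n (g ⁻¹ᵁ U) (pull g _ U s)
      ((homologyI (Scheme.Modules.pullback g) K n).inv.app (g ⁻¹ᵁ U) (pull g _ U h)) := by
  obtain ⟨z, rfl, rfl⟩ := hs
  refine ⟨(cyclesI (Scheme.Modules.pullback g) K n).inv.app (g ⁻¹ᵁ U) (pull g _ U z), ?_, ?_⟩
  · rw [← pull_app g (K.iCycles n)]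
    exact congr($(congrArg (fun k => Scheme.Modules.Hom.app k (g ⁻¹ᵁ U))
      ((Iso.inv_comp_eq _).2 (cyclesI_iCycles (Scheme.Modules.pullback g) K n).symm)) (pull g _ U z))
  · have e : (cyclesI (Scheme.Modules.pullback g) K n).inv ≫
        (((Scheme.Modules.pullback g).mapHomologicalComplex _).obj K).homologyπ n =
        (Scheme.Modules.pullback g).map (K.homologyπ n) ≫ (homologyI (Scheme.Modules.pullback g) K n).inv := by
      rw [Iso.inv_comp_eq, ← Category.assoc, Iso.eq_comp_inv]
      exact π_homologyI (Scheme.Modules.pullback g) K n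
    exact (congr($(congrArg (fun k => Scheme.Modules.Hom.app k (g ⁻¹ᵁ U)) e) (pull g _ U z))).trans
      (congrArg ((homologyI (Scheme.Modules.pullback g) K n).inv.app (g ⁻¹ᵁ U))
        (pull_app g (K.homologyπ n) U z))

end Classes

section Affine

variable {S : Scheme.{u}} {V : S.Opens}

/-- Classes on an affine open of a complex with acyclic terms and quasi-coherent homology. -/
theorem classes_affine (hV : IsAffineOpen V) (K : CochainComplex S.Modules ℕ)
    (hX : ∀ n, AcyclicHomology.Acyclic (CohSections.secF V) (K.X n)) (hH : ∀ n, Coh.IsQCoh (K.homology n))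
    (n : ℕ) :
    (∀ h : Γ(K.homology n, V), ∃ s, IsClass K n V s h) ∧
    (∀ s, IsClass K n V s 0 → ∃ y, (K.d ((ComplexShape.up ℕ).prev n) n).app V y = s) := by
  have hH' : ∀ m, AcyclicHomology.Acyclic (CohSections.secF V) (K.homology m) := fun m =>
    CohSections.acyclic_secF V _ fun k => by
      haveI := hH m
      exact subsingleton_of_forall_eq 0 (Groth.L17.hu_affine_eq_zero (K.homology m) hV k)
  haveI := AcyclicHomology.preservesLeftHomologyOf_sc (CohSections.secF V) K hX hH' n
  let T := CohSections.secF V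
  let e := Groth.L10.SiteCoh.secEquiv (Opens.grothendieckTopology S) V
  let h := (K.sc n).leftHomologyData
  haveI : Epi (T.map h.π) := inferInstanceAs (Epi (h.map T).π)
  have hex : (ShortComplex.mk (T.map h.f') (T.map h.π) (by rw [← T.map_comp, h.f'_π, T.map_zero])).Exact := by
    refine (ShortComplex.exact_iff_of_iso ?_).1 (ShortComplex.exact_of_g_is_cokernel
      (ShortComplex.mk (h.map T).f' (h.map T).π (h.map T).f'_π) (h.map T).hπ')
    exact ShortComplex.isoMk (Iso.refl _) (Iso.refl _) (Iso.refl _)
      (by rw [Iso.refl_hom, Iso.refl_hom, Category.id_comp, Category.comp_id]; exact (h.map_f' T).symm)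
      (by rw [Iso.refl_hom, Iso.refl_hom, Category.id_comp, Category.comp_id]; rfl)
  have key : ∀ {A B : S.Modules} (k : A ⟶ B) (x : T.obj A), e (Coh.toAb B) (T.map k x) = k.app V (e (Coh.toAb A) x) :=
    fun k x => Groth.L10.SiteCoh.secEquiv_comp _ _
  constructor
  · intro c
    obtain ⟨z, hz⟩ := (AddCommGrpCat.epi_iff_surjective (T.map h.π)).1 inferInstance
      (T.map h.homologyIso.hom ((e (Coh.toAb (K.homology n))).symm c))
    refine ⟨(K.iCycles n).app V (h.cyclesIso.inv.app V (e (Coh.toAb h.K) z)),
      h.cyclesIso.inv.app V (e (Coh.toAb h.K) z), rfl, ?_⟩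
    have hH : (h.π).app V (e (Coh.toAb h.K) z) = h.homologyIso.hom.app V c :=
      (key h.π z).symm.trans ((congrArg (e (Coh.toAb h.H)) hz).trans ((key h.homologyIso.hom _).trans
        (congrArg (h.homologyIso.hom.app V) ((e (Coh.toAb (K.homology n))).apply_symm_apply c))))
    have hπ : h.cyclesIso.inv ≫ K.homologyπ n = h.π ≫ h.homologyIso.inv := h.π_comp_homologyIso_inv.symm
    exact (congr($(congrArg (fun k => Scheme.Modules.Hom.app k V) hπ) (e (Coh.toAb h.K) z))).trans
      ((congrArg (h.homologyIso.inv.app V) hH).trans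
        (congr($(congrArg (fun k => Scheme.Modules.Hom.app k V) h.homologyIso.hom_inv_id) c)))
  · rintro s ⟨z, rfl, hz⟩
    rw [ShortComplex.ab_exact_iff] at hex
    obtain ⟨y, hy⟩ := hex ((e (Coh.toAb h.K)).symm (h.cyclesIso.hom.app V z)) (by
      apply (e (Coh.toAb h.H)).injective
      refine (key h.π _).trans (Eq.trans ?_ (map_zero _).symm)
      refine (congrArg (h.π.app V) ((e (Coh.toAb h.K)).apply_symm_apply _)).trans ?_
      have hπ : h.cyclesIso.hom ≫ h.π = K.homologyπ n ≫ h.homologyIso.hom := h.homologyπ_comp_homologyIso_hom.symm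
      exact (congr($(congrArg (fun k => Scheme.Modules.Hom.app k V) hπ) z)).trans
        ((congrArg (h.homologyIso.hom.app V) hz).trans (map_zero _)))
    refine ⟨e (Coh.toAb (K.X ((ComplexShape.up ℕ).prev n))) y, ?_⟩
    have hy' : h.f'.app V (e _ y) = h.cyclesIso.hom.app V z :=
      ((key h.f' y).symm.trans (congrArg (e (Coh.toAb h.K)) hy)).trans (AddEquiv.apply_symm_apply _ _)
    have hd : h.f' ≫ h.i = K.d ((ComplexShape.up ℕ).prev n) n := h.f'_i
    exact (congr($(congrArg (fun k => Scheme.Modules.Hom.app k V) hd) _)).symm.trans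
      ((congrArg (h.i.app V) hy').trans
        (congr($(congrArg (fun k => Scheme.Modules.Hom.app k V) h.cyclesIso_hom_comp_i) z)))

end Affine

end Groth.L17.CxTools
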