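import Groth.Agent.L17.FlatBase.SchemeTheta
import Groth.Agent.L16.AffineBC.Pullback
import Groth.Agent.L16.QcqsPush
import Mathlib.AlgebraicGeometry.Morphisms.Flat
import Mathlib.RingTheory.IsTensorProduct

/-!
The base change map of direct images in degree zero is an isomorphism: affine morphisms with any base
change, quasi-compact quasi-separated morphisms with flat base change.
-/

set_option autoImplicit false
set_option linter.style.haveILetI false
set_option linter.unusedSectionVars false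
set_option backward.isDefEq.respectTransparency false

universe u

open CategoryTheory CategoryTheory.Limits AlgebraicGeometry TopologicalSpace Opposite
open scoped TensorProduct
noncomputable section

namespace Groth.L17.DegZero

open Groth.L18.Frame (rs ro pull rs_rs rs_self rs_smul ro_ro pull_rs pull_smul)

theorem app_rs {Y : Scheme.{u}} {M N : Y.Modules} (φ : M ⟶ N) {U V : Y.Opens} (h : V ≤ U) (s : Γ(M, U)) :
    φ.app V (rs M h s) = rs N h (φ.app U s) :=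
  congr($(φ.mapPresheaf.naturality (homOfLE h).op) s)

/-- A morphism of modules bijective on small affine opens is an isomorphism. -/
theorem isIso_of_affine {Y : Scheme.{u}} {M N : Y.Modules} (φ : M ⟶ N)
    (h : ∀ y : Y, ∃ W : Y.Opens, y ∈ W ∧ ∀ V ≤ W, IsAffineOpen V → Function.Bijective (φ.app V)) : IsIso φ := by
  rw [Groth.L21.Mod.isIso_iff_stalk_bijective]
  intro y
  obtain ⟨W, hyW, hW⟩ := h y
  have key : ∀ (U : Y.Opens), y ∈ U → ∃ (V : Y.Opens) (hVU : V ≤ U), y ∈ V ∧ Function.Bijective (φ.app V) := by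
    intro U hU
    obtain ⟨_, ⟨V, hV, rfl⟩, hyV, hVU⟩ :=
      Y.isBasis_affineOpens.exists_subset_of_mem_open (a := y) (show y ∈ U ⊓ W from ⟨hU, hyW⟩) (U ⊓ W).2
    exact ⟨V, fun x hx => (hVU hx).1, hyV, hW V (fun x hx => (hVU hx).2) hV⟩
  refine ⟨(injective_iff_map_eq_zero _).2 fun a ha => ?_, fun t => ?_⟩
  · obtain ⟨U, hU, s, rfl⟩ := TopCat.Presheaf.exists_germ_eq (F := M.presheaf) (x := y) a
    erw [Groth.L21.Mod.stalkF_map_germ] at ha
    obtain ⟨U', hU', i₁, i₂, e⟩ := TopCat.Presheaf.germ_eq N.presheaf y hU hU (φ.app U s) 0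
      (ha.trans (map_zero _).symm)
    obtain ⟨V, hVU, hyV, hb⟩ := key U' hU'
    have hs : rs M (hVU.trans i₁.le) s = 0 := by
      refine hb.1 ?_
      rw [map_zero, app_rs, ← rs_rs N i₁.le hVU,
        show rs N i₁.le (φ.app U s) = 0 from e.trans (map_zero _)]
      exact map_zero _
    rw [← TopCat.Presheaf.germ_res_apply M.presheaf (homOfLE (hVU.trans i₁.le)) y hyV s]
    exact (congrArg (M.presheaf.germ V y hyV) hs).trans (map_zero _)
  · obtain ⟨U, hU, s, rfl⟩ := TopCat.Presheaf.exists_germ_eq (F := N.presheaf) (x := y) t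
    obtain ⟨V, hVU, hyV, hb⟩ := key U hU
    obtain ⟨a, ha⟩ := hb.2 (rs N hVU s)
    refine ⟨M.presheaf.germ V y hyV a, ?_⟩
    erw [Groth.L21.Mod.stalkF_map_germ]
    rw [ha]
    exact TopCat.Presheaf.germ_res_apply N.presheaf (homOfLE hVU) y hyV s

variable {X S X' S' : Scheme.{u}} (f : X ⟶ S) (g : S' ⟶ S) (g' : X' ⟶ X) (f' : X' ⟶ S') (w : g' ≫ f = f' ≫ g)
  (F : X.Modules)

/-- The map `f_* F ⟶ g_* f'_* g'^* F`. -/
abbrev vMap : (Scheme.Modules.pushforward f).obj F ⟶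
    (Scheme.Modules.pushforward g).obj ((Scheme.Modules.pushforward f').obj ((Scheme.Modules.pullback g').obj F)) :=
  (Scheme.Modules.pushforward f).map ((Scheme.Modules.pullbackPushforwardAdjunction g').unit.app F) ≫
    (Scheme.Modules.pushforwardComp g' f).hom.app ((Scheme.Modules.pullback g').obj F) ≫
    (Scheme.Modules.pushforwardCongr w).hom.app ((Scheme.Modules.pullback g').obj F) ≫
    (Scheme.Modules.pushforwardComp f' g).inv.app ((Scheme.Modules.pullback g').obj F)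

theorem vMap_app (U : S.Opens) (h : f' ⁻¹ᵁ (g ⁻¹ᵁ U) ≤ g' ⁻¹ᵁ (f ⁻¹ᵁ U)) (s : Γ(F, f ⁻¹ᵁ U)) :
    (vMap f g g' f' w F).app U s = rs ((Scheme.Modules.pullback g').obj F) h (pull g' F (f ⁻¹ᵁ U) s) := by
  simp only [vMap, Scheme.Modules.Hom.comp_app]
  rfl

theorem transpose_app {N : S.Modules} {P : S'.Modules} (v : N ⟶ (Scheme.Modules.pushforward g).obj P)
    (U : S.Opens) (t : Γ(N, U)) :
    (((Scheme.Modules.pullbackPushforwardAdjunction g).homEquiv N P).symm v).app (g ⁻¹ᵁ U) (pull g N U t) =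
      v.app U t :=
  congr($(congrArg (fun k => Scheme.Modules.Hom.app k U)
    (((Scheme.Modules.pullbackPushforwardAdjunction g).homEquiv_unit _ _ _).symm.trans
      (((Scheme.Modules.pullbackPushforwardAdjunction g).homEquiv _ _).apply_symm_apply v))) t)

section Tensor

variable {V : S.Opens} {V' : S'.Opens} (eV : V' ≤ g ⁻¹ᵁ V)

/-- Sections over an open above `V`, as a module over the functions on `V`. -/
@[nolint unusedArguments]
def SecA {W : X.Opens} (_e : W ≤ f ⁻¹ᵁ V) : Type u := Γ(F, W)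

instance {W : X.Opens} (e : W ≤ f ⁻¹ᵁ V) : AddCommGroup (SecA f F e) := inferInstanceAs (AddCommGroup Γ(F, W))

instance {W : X.Opens} (e : W ≤ f ⁻¹ᵁ V) : Module Γ(S, V) (SecA f F e) :=
  Module.compHom Γ(F, W) (f.appLE V W e).hom

/-- Restriction, linearly. -/
def resA {W W₁ : X.Opens} (e : W ≤ f ⁻¹ᵁ V) (h : W₁ ≤ W) : SecA f F e →ₗ[Γ(S, V)] SecA f F (h.trans e) where
  toFun s := rs F h s
  map_add' a b := map_add (F.presheaf.map (homOfLE h).op).hom a b
  map_smul' a s := by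
    show rs F h ((f.appLE V W e).hom a • (show Γ(F, W) from s)) =
      (f.appLE V W₁ (h.trans e)).hom a • rs F h (show Γ(F, W) from s)
    rw [rs_smul]
    congr 1
    exact ConcreteCategory.congr_hom (f.appLE_map e (homOfLE h).op) a

include w in
theorem appLE_compat {W : X.Opens} {W' : X'.Opens} (e : W ≤ f ⁻¹ᵁ V) (e₁ : W' ≤ g' ⁻¹ᵁ W)
    (e₂ : W' ≤ f' ⁻¹ᵁ V') (a : Γ(S, V)) :
    g'.appLE W W' e₁ (f.appLE V W e a) = f'.appLE V' W' e₂ (g.appLE V V' eV a) := by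
  have h1 := ConcreteCategory.congr_hom (Scheme.Hom.appLE_comp_appLE g' f V W W' e e₁) a
  have h2 := ConcreteCategory.congr_hom (Scheme.Hom.appLE_comp_appLE f' g V V' W' eV e₂) a
  refine h1.trans (Eq.trans ?_ h2.symm)
  congr 3

variable (alg : Algebra Γ(S, V) Γ(S', V')) (halg : algebraMap Γ(S, V) Γ(S', V') = (g.appLE V V' eV).hom)

/-- The pairing of functions and sections. -/
def β {W : X.Opens} (e : W ≤ f ⁻¹ᵁ V) (W' : X'.Opens) (e₁ : W' ≤ g' ⁻¹ᵁ W) (e₂ : W' ≤ f' ⁻¹ᵁ V') :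
    Γ(S', V') ⊗[Γ(S, V)] SecA f F e →+ Γ((Scheme.Modules.pullback g').obj F, W') :=
  TensorProduct.liftAddHom
    (AddMonoidHom.mk' (fun c => AddMonoidHom.mk'
        (fun m => f'.appLE V' W' e₂ c • rs ((Scheme.Modules.pullback g').obj F) e₁ (pull g' F W m))
        fun m m' => by
          have : pull g' F W (m + m') = pull g' F W m + pull g' F W m' :=
            map_add (((Scheme.Modules.pullbackPushforwardAdjunction g').unit.app F).app W).hom m m'
          exact (congrArg (fun s => f'.appLE V' W' e₂ c • rs _ e₁ s) this).trans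
            ((congrArg (f'.appLE V' W' e₂ c • ·) (map_add _ _ _)).trans (smul_add _ _ _)))
      fun c c' => by ext m; simp only [AddMonoidHom.mk'_apply, AddMonoidHom.add_apply, map_add, add_smul])
    fun a c m => by
      show f'.appLE V' W' e₂ (a • c) • rs _ e₁ (pull g' F W m) =
        f'.appLE V' W' e₂ c • rs _ e₁ (pull g' F W (f.appLE V W e a • (show Γ(F, W) from m)))
      rw [Algebra.smul_def, halg, map_mul, pull_smul, rs_smul, ← mul_smul, mul_comm]
      congr 2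
      exact (appLE_compat f g g' f' w eV e e₁ e₂ a).symm

theorem β_tmul {W : X.Opens} (e : W ≤ f ⁻¹ᵁ V) (W' : X'.Opens) (e₁ : W' ≤ g' ⁻¹ᵁ W) (e₂ : W' ≤ f' ⁻¹ᵁ V')
    (c : Γ(S', V')) (m : SecA f F e) :
    β f g g' f' w F eV alg halg e W' e₁ e₂ (c ⊗ₜ m) =
      f'.appLE V' W' e₂ c • rs ((Scheme.Modules.pullback g').obj F) e₁ (pull g' F W m) := rfl

theorem β_res {W W₁ : X.Opens} (e : W ≤ f ⁻¹ᵁ V) (h : W₁ ≤ W) {W' W₁' : X'.Opens} (e₁ : W' ≤ g' ⁻¹ᵁ W)
    (e₂ : W' ≤ f' ⁻¹ᵁ V') (h' : W₁' ≤ W') (e₁' : W₁' ≤ g' ⁻¹ᵁ W₁)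
    (z : Γ(S', V') ⊗[Γ(S, V)] SecA f F e) :
    β f g g' f' w F eV alg halg (h.trans e) W₁' e₁' (h'.trans e₂) ((resA f F e h).lTensor _ z) =
      rs ((Scheme.Modules.pullback g').obj F) h' (β f g g' f' w F eV alg halg e W' e₁ e₂ z) := by
  induction z using TensorProduct.induction_on with
  | zero => simp
  | add x y hx hy => simp only [map_add, hx, hy]
  | tmul c m =>
    rw [LinearMap.lTensor_tmul, β_tmul, β_tmul, rs_smul]
    congr 1
    · exact (ConcreteCategory.congr_hom (f'.appLE_map e₂ (homOfLE h').op) c).symm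
    · show rs _ e₁' (pull g' F W₁ (rs F h (show Γ(F, W) from m))) = _
      rw [← pull_rs, rs_rs, rs_rs]

/-- Bijectivity of the pairing. -/
def Good (W : X.Opens) : Prop :=
  ∀ e : W ≤ f ⁻¹ᵁ V, Function.Bijective
    (β f g g' f' w F eV alg halg e (g' ⁻¹ᵁ W ⊓ f' ⁻¹ᵁ V') inf_le_left inf_le_right)

theorem good_affine (hc : IsPullback g' f' f g) [Coh.IsQCoh F] (hV : IsAffineOpen V) (hV' : IsAffineOpen V')
    {W : X.Opens} (hW : IsAffineOpen W) : Good f g g' f' w F eV alg halg W := by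
  intro e
  have hpb := Scheme.Hom.isPullback_resLE hc (UT := V') eV e (UY := g' ⁻¹ᵁ W ⊓ f' ⁻¹ᵁ V') rfl
  haveI : IsAffine V.toScheme := hV
  haveI : IsAffine W.toScheme := hW
  haveI : IsAffine V'.toScheme := hV'
  have hU : IsAffineOpen (g' ⁻¹ᵁ W ⊓ f' ⁻¹ᵁ V') := IsAffine.of_isPullback hpb
  have hpo : IsPushout (f.appLE V W e) (g.appLE V V' eV)
      (g'.appLE W (g' ⁻¹ᵁ W ⊓ f' ⁻¹ᵁ V') inf_le_left) (f'.appLE V' (g' ⁻¹ᵁ W ⊓ f' ⁻¹ᵁ V') inf_le_right) := by
    refine (isPushout_appTop_of_isPullback hpb).of_iso V.topIso W.topIso V'.topIso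
      (g' ⁻¹ᵁ W ⊓ f' ⁻¹ᵁ V').topIso ?_ ?_ ?_ ?_ <;>
    simp only [Scheme.Hom.appTop, Scheme.Hom.resLE_app_top, Category.assoc, Iso.inv_hom_id, Category.comp_id]
  set U := g' ⁻¹ᵁ W ⊓ f' ⁻¹ᵁ V' with hUdef
  have eU : U ≤ g' ⁻¹ᵁ W := inf_le_left
  have eU' : U ≤ f' ⁻¹ᵁ V' := inf_le_right
  set P := (Scheme.Modules.pullback g').obj F with hP
  letI : Algebra Γ(S, V) Γ(X, W) := (f.appLE V W e).hom.toAlgebra
  letI : Algebra Γ(X, W) Γ(X', U) := (g'.appLE W U eU).hom.toAlgebra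
  letI : Algebra Γ(S', V') Γ(X', U) := (f'.appLE V' U eU').hom.toAlgebra
  letI : Algebra Γ(S, V) Γ(X', U) := ((g'.appLE W U eU).hom.comp (f.appLE V W e).hom).toAlgebra
  haveI : IsScalarTower Γ(S, V) Γ(X, W) Γ(X', U) := IsScalarTower.of_algebraMap_eq' rfl
  haveI : IsScalarTower Γ(S, V) Γ(S', V') Γ(X', U) :=
    IsScalarTower.of_algebraMap_eq fun a => by
      rw [halg]; exact appLE_compat f g g' f' w eV e eU eU' a
  have hpo' : IsPushout (CommRingCat.ofHom (algebraMap Γ(S, V) Γ(X, W)))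
      (CommRingCat.ofHom (algebraMap Γ(S, V) Γ(S', V')))
      (CommRingCat.ofHom (algebraMap Γ(X, W) Γ(X', U))) (CommRingCat.ofHom (algebraMap Γ(S', V') Γ(X', U))) := by
    rw [halg]; exact hpo
  haveI : Algebra.IsPushout Γ(S, V) Γ(X, W) Γ(S', V') Γ(X', U) := CommRingCat.isPushout_iff_isPushout.mp hpo'
  haveI : Algebra.IsPushout Γ(S, V) Γ(S', V') Γ(X, W) Γ(X', U) := Algebra.IsPushout.symm inferInstance
  letI : Module Γ(S, V) Γ(F, W) := Module.compHom Γ(F, W) (f.appLE V W e).hom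
  haveI : IsScalarTower Γ(S, V) Γ(X, W) Γ(F, W) := IsScalarTower.of_algebraMap_smul fun _ _ => rfl
  letI : Module Γ(X, W) Γ(P, U) := Module.compHom Γ(P, U) (g'.appLE W U eU).hom
  haveI : IsScalarTower Γ(X, W) Γ(X', U) Γ(P, U) := IsScalarTower.of_algebraMap_smul fun _ _ => rfl
  have hbc := Groth.L16.AffineBC.isBaseChange_pull g' F hW hU eU
  let E₀ := (Algebra.IsPushout.cancelBaseChange Γ(S, V) Γ(S', V') Γ(X, W) Γ(X', U) Γ(F, W)).symm
  let E : Γ(S', V') ⊗[Γ(S, V)] Γ(F, W) ≃+ Γ(P, U) := E₀.toAddEquiv.trans hbc.equiv.toAddEquiv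
  have key : ∀ z : Γ(S', V') ⊗[Γ(S, V)] Γ(F, W), β f g g' f' w F eV alg halg e U eU eU' z = E z := fun z => by
    induction z using TensorProduct.induction_on with
    | zero => exact (map_zero _).trans (map_zero E).symm
    | add x y hx hy => exact (map_add _ x y).trans ((congrArg₂ (· + ·) hx hy).trans (map_add E x y).symm)
    | tmul c m =>
      show _ = hbc.equiv (E₀ (c ⊗ₜ m))
      rw [Algebra.IsPushout.cancelBaseChange_symm_tmul, IsBaseChange.equiv_tmul]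
      rfl
  rw [show ⇑(β f g g' f' w F eV alg halg e U eU eU') = ⇑E from funext key]
  exact E.bijective

theorem good_sup (hflat : Module.Flat Γ(S, V) Γ(S', V')) {U₁ U₂ : X.Opens} (h1 : Good f g g' f' w F eV alg halg U₁)
    (h2 : Good f g g' f' w F eV alg halg U₂) (h12 : Good f g g' f' w F eV alg halg (U₁ ⊓ U₂)) :
    Good f g g' f' w F eV alg halg (U₁ ⊔ U₂) := by
  intro e
  set P := (Scheme.Modules.pullback g').obj F
  let r1 := resA f F e (le_sup_left : U₁ ≤ U₁ ⊔ U₂)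
  let r2 := resA f F e (le_sup_right : U₂ ≤ U₁ ⊔ U₂)
  let s1 := resA f F (le_sup_left.trans e) (inf_le_left : U₁ ⊓ U₂ ≤ U₁)
  let s2 := resA f F (le_sup_right.trans e) (inf_le_right : U₁ ⊓ U₂ ≤ U₂)
  let MF : TopCat.Sheaf Ab.{u} X.toTopCat := ⟨F.presheaf, F.isSheaf⟩
  let MP : TopCat.Sheaf Ab.{u} X'.toTopCat := ⟨P.presheaf, P.isSheaf⟩
  have hinj : Function.Injective (r1.prod r2) := fun a b hab => by
    refine MF.eq_of_locally_eq₂ (homOfLE le_sup_left) (homOfLE le_sup_right) le_rfl a b ?_ ?_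
    · exact (Prod.ext_iff.1 hab).1
    · exact (Prod.ext_iff.1 hab).2
  have hex : Function.Exact (r1.prod r2) (s1.coprod (-s2)) := by
    intro p
    refine ⟨fun hp => ?_, ?_⟩
    · have hp' : rs F (inf_le_left : U₁ ⊓ U₂ ≤ U₁) p.1 = rs F (inf_le_right : U₁ ⊓ U₂ ≤ U₂) p.2 := by
        have := hp
        rw [LinearMap.coprod_apply, LinearMap.neg_apply, add_neg_eq_zero] at this
        exact this
      obtain ⟨a, ha, -⟩ := MF.existsUnique_gluing'
        (fun i : ULift.{u} Bool => if i.down then U₁ else U₂) (U₁ ⊔ U₂)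
        (fun i => homOfLE (by rcases i with ⟨_ | _⟩ <;> simp))
        (sup_le (le_iSup_of_le (ι := ULift.{u} Bool) ⟨true⟩ le_rfl) (le_iSup_of_le (ι := ULift.{u} Bool) ⟨false⟩ le_rfl))
        (fun i => match i with | ⟨true⟩ => p.1 | ⟨false⟩ => p.2)
        (fun i j => by
          rcases i with ⟨_ | _⟩ <;> rcases j with ⟨_ | _⟩
          · rfl
          · show rs F inf_le_left p.2 = rs F inf_le_right p.1
            have h1 := congrArg (rs F (show U₂ ⊓ U₁ ≤ U₁ ⊓ U₂ from (inf_comm _ _).le)) hp'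
            rw [rs_rs, rs_rs] at h1
            exact h1.symm
          · exact hp'
          · rfl)
      exact ⟨a, Prod.ext (ha ⟨true⟩) (ha ⟨false⟩)⟩
    · rintro ⟨a, rfl⟩
      rw [LinearMap.coprod_apply, LinearMap.neg_apply, add_neg_eq_zero]
      show rs F _ (rs F _ a) = rs F _ (rs F _ a)
      rw [rs_rs, rs_rs]
  have i1 : g' ⁻¹ᵁ U₁ ⊓ f' ⁻¹ᵁ V' ≤ g' ⁻¹ᵁ (U₁ ⊔ U₂) ⊓ f' ⁻¹ᵁ V' :=
    inf_le_inf_right _ (g'.preimage_mono le_sup_left)
  have i2 : g' ⁻¹ᵁ U₂ ⊓ f' ⁻¹ᵁ V' ≤ g' ⁻¹ᵁ (U₁ ⊔ U₂) ⊓ f' ⁻¹ᵁ V' :=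
    inf_le_inf_right _ (g'.preimage_mono le_sup_right)
  have j1 : g' ⁻¹ᵁ (U₁ ⊓ U₂) ⊓ f' ⁻¹ᵁ V' ≤ g' ⁻¹ᵁ U₁ ⊓ f' ⁻¹ᵁ V' :=
    inf_le_inf_right _ (g'.preimage_mono inf_le_left)
  have j2 : g' ⁻¹ᵁ (U₁ ⊓ U₂) ⊓ f' ⁻¹ᵁ V' ≤ g' ⁻¹ᵁ U₂ ⊓ f' ⁻¹ᵁ V' :=
    inf_le_inf_right _ (g'.preimage_mono inf_le_right)
  have hcov : g' ⁻¹ᵁ (U₁ ⊔ U₂) ⊓ f' ⁻¹ᵁ V' ≤ (g' ⁻¹ᵁ U₁ ⊓ f' ⁻¹ᵁ V') ⊔ (g' ⁻¹ᵁ U₂ ⊓ f' ⁻¹ᵁ V') := by
    rintro x ⟨hx | hx, hx'⟩
    · exact Or.inl ⟨hx, hx'⟩
    · exact Or.inr ⟨hx, hx'⟩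
  have c1 := β_res f g g' f' w F eV alg halg e (le_sup_left : U₁ ≤ U₁ ⊔ U₂)
    (e₁ := inf_le_left) (e₂ := inf_le_right) i1 inf_le_left
  have c2 := β_res f g g' f' w F eV alg halg e (le_sup_right : U₂ ≤ U₁ ⊔ U₂)
    (e₁ := inf_le_left) (e₂ := inf_le_right) i2 inf_le_left
  have d1 := β_res f g g' f' w F eV alg halg (le_sup_left.trans e) (inf_le_left : U₁ ⊓ U₂ ≤ U₁)
    (e₁ := inf_le_left) (e₂ := inf_le_right) j1 inf_le_left
  have d2 := β_res f g g' f' w F eV alg halg (le_sup_right.trans e) (inf_le_right : U₁ ⊓ U₂ ≤ U₂)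
    (e₁ := inf_le_left) (e₂ := inf_le_right) j2 inf_le_left
  refine ⟨(injective_iff_map_eq_zero _).2 fun z hz => ?_, fun t => ?_⟩
  · have z1 : r1.lTensor Γ(S', V') z = 0 := (h1 _).1
      (((c1 z).trans ((congrArg (rs P i1) hz).trans (map_zero (P.presheaf.map (homOfLE i1).op).hom))).trans
        (map_zero _).symm)
    have z2 : r2.lTensor Γ(S', V') z = 0 := (h2 _).1
      (((c2 z).trans ((congrArg (rs P i2) hz).trans (map_zero (P.presheaf.map (homOfLE i2).op).hom))).trans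
        (map_zero _).symm)
    apply Module.Flat.lTensor_preserves_injective_linearMap _ hinj
    rw [map_zero]
    apply (TensorProduct.prodRight Γ(S, V) Γ(S, V) Γ(S', V') _ _).injective
    rw [map_zero]
    have : ∀ z, TensorProduct.prodRight Γ(S, V) Γ(S, V) Γ(S', V') _ _ ((r1.prod r2).lTensor Γ(S', V') z) =
        (r1.lTensor Γ(S', V') z, r2.lTensor Γ(S', V') z) := fun z => by
      induction z using TensorProduct.induction_on with
      | zero => simp only [map_zero]; rfl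
      | add x y hx hy => simp only [map_add, hx, hy, Prod.mk_add_mk]
      | tmul b x => rfl
    rw [this, z1, z2]; rfl
  · obtain ⟨z1, hz1⟩ := (h1 (le_sup_left.trans e)).2 (rs P i1 t)
    obtain ⟨z2, hz2⟩ := (h2 (le_sup_right.trans e)).2 (rs P i2 t)
    have hd : s1.lTensor Γ(S', V') z1 = s2.lTensor Γ(S', V') z2 := by
      refine (h12 _).1 ?_
      refine (d1 z1).trans (Eq.trans ?_ (d2 z2).symm)
      rw [hz1, hz2, rs_rs, rs_rs]
    let pz := (TensorProduct.prodRight Γ(S, V) Γ(S, V) Γ(S', V') _ _).symm (z1, z2)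
    have hco : ∀ q, (s1.coprod (-s2)).lTensor Γ(S', V') ((TensorProduct.prodRight Γ(S, V) Γ(S, V) Γ(S', V') _ _).symm q) =
        s1.lTensor Γ(S', V') q.1 - s2.lTensor Γ(S', V') q.2 := fun q => by
      obtain ⟨q, rfl⟩ := (TensorProduct.prodRight Γ(S, V) Γ(S, V) Γ(S', V') _ _).surjective q
      rw [LinearEquiv.symm_apply_apply]
      induction q using TensorProduct.induction_on with
      | zero => simp
      | add x y hx hy => simp only [map_add, hx, hy, Prod.fst_add, Prod.snd_add]; abel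
      | tmul b x => simp [sub_eq_add_neg, TensorProduct.tmul_add, TensorProduct.tmul_neg]
    obtain ⟨z, hz⟩ := (Module.Flat.lTensor_exact Γ(S', V') hex pz).1 (by rw [hco]; exact sub_eq_zero.2 hd)
    have hpr : r1.lTensor Γ(S', V') z = z1 ∧ r2.lTensor Γ(S', V') z = z2 := by
      have : ∀ z, TensorProduct.prodRight Γ(S, V) Γ(S, V) Γ(S', V') _ _ ((r1.prod r2).lTensor Γ(S', V') z) =
          (r1.lTensor Γ(S', V') z, r2.lTensor Γ(S', V') z) := fun z => by
        induction z using TensorProduct.induction_on with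
        | zero => simp only [map_zero]; rfl
        | add x y hx hy => simp only [map_add, hx, hy, Prod.mk_add_mk]
        | tmul b x => rfl
      exact Prod.ext_iff.1 ((this z).symm.trans (by rw [hz, LinearEquiv.apply_symm_apply]))
    refine ⟨z, MP.eq_of_locally_eq₂ (homOfLE i1) (homOfLE i2) hcov _ t ?_ ?_⟩
    · exact (c1 z).symm.trans ((congrArg _ hpr.1).trans hz1)
    · exact (c2 z).symm.trans ((congrArg _ hpr.2).trans hz2)

end Tensor

/-- The base change map is an isomorphism if the pairings on preimages of affine opens are bijective. -/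
theorem isIso_transpose [QuasiCompact f] [QuasiSeparated f] [Coh.IsQCoh F]
    (h : ∀ (V : S.Opens) (V' : S'.Opens) (eV : V' ≤ g ⁻¹ᵁ V) (alg : Algebra Γ(S, V) Γ(S', V'))
      (halg : algebraMap Γ(S, V) Γ(S', V') = (g.appLE V V' eV).hom), IsAffineOpen V → IsAffineOpen V' →
      Good f g g' f' w F eV alg halg (f ⁻¹ᵁ V)) :
    IsIso (((Scheme.Modules.pullbackPushforwardAdjunction g).homEquiv _ _).symm (vMap f g g' f' w F)) := by
  haveI : Coh.IsQCoh ((Scheme.Modules.pushforward f).obj F) := Groth.L16.QcqsPush.isQCoh_push F f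
  refine isIso_of_affine _ fun z => ?_
  obtain ⟨_, ⟨V, hV, rfl⟩, hzV, -⟩ :=
    S.isBasis_affineOpens.exists_subset_of_mem_open (Set.mem_univ (g z)) isOpen_univ
  refine ⟨g ⁻¹ᵁ V, hzV, fun V' eV hV' => ?_⟩
  set u₀ := ((Scheme.Modules.pullbackPushforwardAdjunction g).homEquiv _ _).symm (vMap f g g' f' w F)
  let N := (Scheme.Modules.pushforward f).obj F
  let P := (Scheme.Modules.pullback g').obj F
  letI alg : Algebra Γ(S, V) Γ(S', V') := (g.appLE V V' eV).hom.toAlgebra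
  have he : f' ⁻¹ᵁ V' ≤ g' ⁻¹ᵁ (f ⁻¹ᵁ V) := fun x hx => by
    show f (g' x) ∈ V
    rw [← Scheme.Hom.comp_apply, w, Scheme.Hom.comp_apply]
    exact eV hx
  have hb : Function.Bijective (β f g g' f' w F eV alg rfl le_rfl (f' ⁻¹ᵁ V') he le_rfl) := by
    have hg := h V V' eV alg rfl hV hV' le_rfl
    have heq : ∀ (W' : X'.Opens) (a : W' ≤ g' ⁻¹ᵁ (f ⁻¹ᵁ V)) (b : W' ≤ f' ⁻¹ᵁ V'), W' = f' ⁻¹ᵁ V' →
        Function.Bijective (β f g g' f' w F eV alg rfl le_rfl W' a b) →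
        Function.Bijective (β f g g' f' w F eV alg rfl le_rfl (f' ⁻¹ᵁ V') he le_rfl) := by
      rintro W' a b rfl hb; exact hb
    exact heq _ _ _ (inf_eq_right.2 he) hg
  letI : Module Γ(S, V) Γ((Scheme.Modules.pullback g).obj N, V') := Module.compHom _ (g.appLE V V' eV).hom
  haveI : IsScalarTower Γ(S, V) Γ(S', V') Γ((Scheme.Modules.pullback g).obj N, V') :=
    IsScalarTower.of_algebraMap_smul fun _ _ => rfl
  have hpr := Groth.L16.AffineBC.isBaseChange_pull g N hV hV' eV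
  let e : SecA f F (le_refl (f ⁻¹ᵁ V)) →ₗ[Γ(S, V)] Γ(N, V) :=
    { toFun := id, map_add' := fun _ _ => rfl,
      map_smul' := fun a m => by
        show (f.appLE V (f ⁻¹ᵁ V) le_rfl).hom a • (show Γ(F, f ⁻¹ᵁ V) from m) =
          (f.app V).hom a • (show Γ(F, f ⁻¹ᵁ V) from m)
        rw [Scheme.Hom.app_eq_appLE] }
  let E : Γ(S', V') ⊗[Γ(S, V)] SecA f F (le_refl (f ⁻¹ᵁ V)) ≃ₗ[Γ(S, V)]
      Γ(S', V') ⊗[Γ(S, V)] Γ(N, V) :=
    TensorProduct.congr (LinearEquiv.refl _ _) (LinearEquiv.ofBijective e Function.bijective_id)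
  have key : ∀ x, u₀.app V' (hpr.equiv (E x)) = β f g g' f' w F eV alg rfl le_rfl (f' ⁻¹ᵁ V') he le_rfl x := by
    intro x
    induction x using TensorProduct.induction_on with
    | zero => simp only [map_zero]
    | add a b ha hb => simp only [map_add, ha, hb]
    | tmul c t =>
      show u₀.app V' (hpr.equiv (c ⊗ₜ (show Γ(N, V) from t))) = _
      rw [IsBaseChange.equiv_tmul, β_tmul]
      refine (u₀.app_smul c _).trans ?_
      show (show Γ(X', f' ⁻¹ᵁ V') from f'.app V' c) •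
        (show Γ(P, f' ⁻¹ᵁ V') from u₀.app V' (rs _ eV (pull g N V t))) = _
      rw [app_rs, transpose_app]
      refine congrArg₂ (fun (a : Γ(X', f' ⁻¹ᵁ V')) (b : Γ(P, f' ⁻¹ᵁ V')) => a • b) ?_ ?_
      · rw [Scheme.Hom.app_eq_appLE]
      · have h' : f' ⁻¹ᵁ (g ⁻¹ᵁ V) ≤ g' ⁻¹ᵁ (f ⁻¹ᵁ V) := fun x hx => by
          show f (g' x) ∈ V
          rw [← Scheme.Hom.comp_apply, w, Scheme.Hom.comp_apply]
          exact hx
        rw [vMap_app f g g' f' w F V h']
        exact rs_rs P h' (f'.preimage_mono eV) _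
  have : Function.Bijective (fun x => u₀.app V' (hpr.equiv (E x))) := by rw [funext key]; exact hb
  exact (Function.Bijective.of_comp_iff _ (hpr.equiv.bijective.comp E.bijective)).1 this

/-- Affine morphisms: every base change. -/
theorem isIso_of_isAffineHom (hc : IsPullback g' f' f g) [IsAffineHom f] [Coh.IsQCoh F] :
    IsIso (((Scheme.Modules.pullbackPushforwardAdjunction g).homEquiv _ _).symm (vMap f g g' f' hc.w F)) :=
  isIso_transpose f g g' f' hc.w F fun V _ eV alg halg hV hV' =>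
    good_affine f g g' f' hc.w F eV alg halg hc hV hV' (hV.preimage f)

/-- Quasi-compact quasi-separated morphisms: flat base change. -/
theorem isIso_of_flat (hc : IsPullback g' f' f g) [QuasiCompact f] [QuasiSeparated f] [Flat g] [Coh.IsQCoh F] :
    IsIso (((Scheme.Modules.pullbackPushforwardAdjunction g).homEquiv _ _).symm (vMap f g g' f' hc.w F)) := by
  refine isIso_transpose f g g' f' hc.w F fun V V' eV alg halg hV hV' => ?_
  have hflat : Module.Flat Γ(S, V) Γ(S', V') := by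
    have h := g.flat_appLE hV hV' eV
    rw [← halg, RingHom.flat_algebraMap_iff] at h
    exact h
  have hc' : IsCompact ((f ⁻¹ᵁ V : X.Opens) : Set X) := f.isCompact_preimage hV.isCompact
  haveI : QuasiSeparatedSpace (f ⁻¹ᵁ V : X.Opens).toScheme := by
    haveI : IsAffine V.toScheme := hV
    exact quasiSeparatedSpace_of_quasiSeparated (f ∣_ V)
  have key : ∀ U : (f ⁻¹ᵁ V : X.Opens).toScheme.Opens, IsCompact (U : Set ↥(f ⁻¹ᵁ V : X.Opens).toScheme) →
      Good f g g' f' hc.w F eV alg halg ((f ⁻¹ᵁ V).ι ''ᵁ U) := fun U hU => by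
    refine SchemeTheta.qc_induction (fun U => Good f g g' f' hc.w F eV alg halg ((f ⁻¹ᵁ V).ι ''ᵁ U))
      (fun W hW => good_affine f g g' f' hc.w F eV alg halg hc hV hV' (hW.image_of_isOpenImmersion _))
      (fun U₁ U₂ a b c => ?_) hU
    have e1 : (f ⁻¹ᵁ V).ι ''ᵁ (U₁ ⊔ U₂) = (f ⁻¹ᵁ V).ι ''ᵁ U₁ ⊔ (f ⁻¹ᵁ V).ι ''ᵁ U₂ :=
      Opens.ext (Set.image_union _ _ _)
    have e2 : (f ⁻¹ᵁ V).ι ''ᵁ (U₁ ⊓ U₂) = (f ⁻¹ᵁ V).ι ''ᵁ U₁ ⊓ (f ⁻¹ᵁ V).ι ''ᵁ U₂ :=
      Opens.ext (Set.image_inter (f ⁻¹ᵁ V).ι.isOpenEmbedding.injective)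
    rw [e1]
    refine good_sup f g g' f' hc.w F eV alg halg hflat a b ?_
    rw [← e2]
    exact c
  have := key ⊤ (by
    haveI : CompactSpace (f ⁻¹ᵁ V : X.Opens).toScheme := isCompact_iff_compactSpace.1 hc'
    exact isCompact_univ)
  rwa [Scheme.Hom.image_top_eq_opensRange, Scheme.Opens.opensRange_ι] at this

end Groth.L17.DegZero
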