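import Groth.Agent.L17.FlatBase.CxTheta
import Groth.Agent.L17.PushQCoh

/-!
Flat base change for higher direct images.
-/

set_option autoImplicit false
set_option linter.style.haveILetI false
set_option linter.unusedSectionVars false
set_option backward.isDefEq.respectTransparency false
set_option backward.isDefEq.respectTransparency.types false

universe u

open CategoryTheory CategoryTheory.Limits AlgebraicGeometry TopologicalSpace Opposite
open scoped TensorProduct
noncomputable section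

namespace Groth.L17.CxIso

open Groth.L18.Frame (rs ro pull rs_rs rs_self rs_smul)
open Groth.L17.DegZero Groth.L17.CxTheta

attribute [local instance] CxTools.additive_pullback CxTools.preservesFiniteColimits_pullback PushQCoh.additive_push

variable {X S X' S' : Scheme.{u}} (f : X ⟶ S) (g : S' ⟶ S) (g' : X' ⟶ X) (f' : X' ⟶ S') (w : g' ≫ f = f' ≫ g)
  {M : X.Modules} (I : InjectiveResolution M) (J : InjectiveResolution ((Scheme.Modules.pullback g').obj M))
  (η : ((Scheme.Modules.pullback g').mapHomologicalComplex _).obj I.cocomplex ⟶ J.cocomplex)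

/-- The direct image of the resolution. -/
abbrev cC : CochainComplex S.Modules ℕ :=
  ((Scheme.Modules.pushforward f).mapHomologicalComplex _).obj I.cocomplex

/-- The direct image of the resolution upstairs. -/
abbrev cD : CochainComplex S'.Modules ℕ :=
  ((Scheme.Modules.pushforward f').mapHomologicalComplex _).obj J.cocomplex

theorem vMap_naturality {F F' : X.Modules} (φ : F ⟶ F') :
    (Scheme.Modules.pushforward f).map φ ≫ vMap f g g' f' w F' =
      vMap f g g' f' w F ≫ (Scheme.Modules.pushforward g).map ((Scheme.Modules.pushforward f').map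
        ((Scheme.Modules.pullback g').map φ)) := by
  have h := (Functor.whiskerRight (Scheme.Modules.pullbackPushforwardAdjunction g').unit (Scheme.Modules.pushforward f) ≫
    Functor.whiskerLeft (Scheme.Modules.pullback g') ((Scheme.Modules.pushforwardComp g' f).hom ≫
      (Scheme.Modules.pushforwardCongr w).hom ≫ (Scheme.Modules.pushforwardComp f' g).inv)).naturality φ
  exact h

theorem vMap_comm {F F' : X.Modules} {P P' : X'.Modules} (φ : F ⟶ F') (b : (Scheme.Modules.pullback g').obj F ⟶ P)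
    (b' : (Scheme.Modules.pullback g').obj F' ⟶ P') (e : P ⟶ P')
    (h : b ≫ e = (Scheme.Modules.pullback g').map φ ≫ b') :
    (vMap f g g' f' w F ≫ (Scheme.Modules.pushforward g).map ((Scheme.Modules.pushforward f').map b)) ≫
        (Scheme.Modules.pushforward g).map ((Scheme.Modules.pushforward f').map e) =
      (Scheme.Modules.pushforward f).map φ ≫ vMap f g g' f' w F' ≫
        (Scheme.Modules.pushforward g).map ((Scheme.Modules.pushforward f').map b') := by
  rw [Category.assoc (vMap f g g' f' w F), ← Functor.map_comp, ← Functor.map_comp, h, Functor.map_comp,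
    Functor.map_comp, ← Category.assoc (vMap f g g' f' w F), ← vMap_naturality,
    Category.assoc ((Scheme.Modules.pushforward f).map φ)]

/-- The degreewise comparison in adjoint form. -/
def vn (n : ℕ) : (cC f I).X n ⟶ (Scheme.Modules.pushforward g).obj ((cD g' f' J).X n) :=
  vMap f g g' f' w (I.cocomplex.X n) ≫
    (Scheme.Modules.pushforward g).map ((Scheme.Modules.pushforward f').map (η.f n))

/-- The comparison of complexes. -/
def u : ((Scheme.Modules.pullback g).mapHomologicalComplex _).obj (cC f I) ⟶ cD g' f' J where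
  f n := ((Scheme.Modules.pullbackPushforwardAdjunction g).homEquiv _ _).symm (vn f g g' f' w I J η n)
  comm' i j _ := by
    refine ((Scheme.Modules.pullbackPushforwardAdjunction g).homEquiv_naturality_right_symm _ _).symm.trans
      (Eq.trans ?_ ((Scheme.Modules.pullbackPushforwardAdjunction g).homEquiv_naturality_left_symm _ _))
    refine congrArg _ ?_
    exact vMap_comm f g g' f' w _ _ _ _ (η.comm i j)

theorem u_app {V : S.Opens} (n : ℕ) (s : Γ(I.cocomplex.X n, f ⁻¹ᵁ V)) (h' : f' ⁻¹ᵁ (g ⁻¹ᵁ V) ≤ g' ⁻¹ᵁ (f ⁻¹ᵁ V)) :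
    ((u f g g' f' w I J η).f n).app (g ⁻¹ᵁ V) (pull g ((cC f I).X n) V s) =
      rs (J.cocomplex.X n) h' ((η.f n).app (g' ⁻¹ᵁ (f ⁻¹ᵁ V)) (pull g' (I.cocomplex.X n) (f ⁻¹ᵁ V) s)) := by
  refine (transpose_app g (vn f g g' f' w I J η n) V s).trans ?_
  refine (congrArg ((η.f n).app (f' ⁻¹ᵁ (g ⁻¹ᵁ V))) (vMap_app f g g' f' w (I.cocomplex.X n) V h' s)).trans ?_
  exact app_rs (η.f n) h' _

variable [PreservesFiniteLimits (Scheme.Modules.pullback g)]

/-- The comparison on homology. -/
def ψ (n : ℕ) : (Scheme.Modules.pullback g).obj ((cC f I).homology n) ⟶ (cD g' f' J).homology n :=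
  (CxTools.homologyI (Scheme.Modules.pullback g) (cC f I) n).inv ≫
    HomologicalComplex.homologyMap (u f g g' f' w I J η) n

theorem isClass_ψ {V : S.Opens} {V' : S'.Opens} (eV : V' ≤ g ⁻¹ᵁ V) (h' : f' ⁻¹ᵁ V' ≤ g' ⁻¹ᵁ (f ⁻¹ᵁ V)) (n : ℕ)
    {s : Γ(I.cocomplex.X n, f ⁻¹ᵁ V)} {h : Γ((cC f I).homology n, V)}
    (hs : CxTools.IsClass (cC f I) n V s h) (c : Γ(S', V')) :
    CxTools.IsClass (cD g' f' J) n V'
      ((show Γ(X', f' ⁻¹ᵁ V') from f'.app V' c) •
        rs (J.cocomplex.X n) h' ((η.f n).app (g' ⁻¹ᵁ (f ⁻¹ᵁ V)) (pull g' (I.cocomplex.X n) (f ⁻¹ᵁ V) s)))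
      ((ψ f g g' f' w I J η n).app V' (c • rs _ eV (pull g _ V h))) := by
  have hw : f' ⁻¹ᵁ (g ⁻¹ᵁ V) ≤ g' ⁻¹ᵁ (f ⁻¹ᵁ V) := fun x hx => by
    show f (g' x) ∈ V
    rw [← Scheme.Hom.comp_apply, w, Scheme.Hom.comp_apply]
    exact hx
  have h1 := (((hs.pullback g).map (u f g g' f' w I J η)).res eV).smul c
  have e1 : c • rs ((cD g' f' J).X n) eV (((u f g g' f' w I J η).f n).app (g ⁻¹ᵁ V) (pull g ((cC f I).X n) V s)) =
      (show Γ((cD g' f' J).X n, V') from (show Γ(X', f' ⁻¹ᵁ V') from f'.app V' c) •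
        rs (J.cocomplex.X n) h' ((η.f n).app (g' ⁻¹ᵁ (f ⁻¹ᵁ V)) (pull g' (I.cocomplex.X n) (f ⁻¹ᵁ V) s))) := by
    rw [u_app f g g' f' w I J η n s hw]
    refine congrArg (fun b : Γ(J.cocomplex.X n, f' ⁻¹ᵁ V') => (show Γ(X', f' ⁻¹ᵁ V') from f'.app V' c) • b) ?_
    exact rs_rs (J.cocomplex.X n) hw (f'.preimage_mono eV) _
  have e2 : (ψ f g g' f' w I J η n).app V' (c • rs _ eV (pull g _ V h)) =
      c • rs _ eV ((ψ f g g' f' w I J η n).app (g ⁻¹ᵁ V) (pull g _ V h)) :=
    (Scheme.Modules.Hom.app_smul (ψ f g g' f' w I J η n) c _).trans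
      (congrArg _ (app_rs (ψ f g g' f' w I J η n) eV _))
  exact Eq.mp (congrArg₂ (fun a b => CxTools.IsClass (cD g' f' J) n V' a b) e1 e2.symm) h1

variable [QuasiCompact f] [QuasiSeparated f] [QuasiCompact f'] [QuasiSeparated f'] [Coh.IsQCoh M]
  [HasInjectiveResolutions X.Modules] [HasInjectiveResolutions X'.Modules]

theorem isQCoh_homology {Y Z : Scheme.{u}} (k : Y ⟶ Z) [QuasiCompact k] [QuasiSeparated k]
    [HasInjectiveResolutions Y.Modules] {N : Y.Modules} [Coh.IsQCoh N] (K : InjectiveResolution N) (n : ℕ) :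
    Coh.IsQCoh ((cC k K).homology n) :=
  haveI := PushQCoh.isQCoh_Rpush k N n
  (SheafOfModules.isQuasicoherent Z.ringCatSheaf).prop_of_iso (K.isoRightDerivedObj (Scheme.Modules.pushforward k) n) this

theorem isIso_ψ (hc : IsPullback g' f' f g) [Flat g]
    (hη : (Scheme.Modules.pullback g').map (I.ι.f 0) ≫ η.f 0 = J.ι.f 0) (n : ℕ) :
    IsIso (ψ f g g' f' w I J η n) := by
  haveI : Coh.IsQCoh ((Scheme.Modules.pullback g').obj M) := Groth.L16.AffineBC.isQCoh_pullback g' M
  haveI := I.injective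
  haveI := J.injective
  have hqC : ∀ m, Coh.IsQCoh ((cC f I).homology m) := isQCoh_homology f I
  have hqD : ∀ m, Coh.IsQCoh ((cD g' f' J).homology m) := isQCoh_homology f' J
  haveI := hqC n
  refine isIso_of_affine _ fun z => ?_
  obtain ⟨_, ⟨V, hV, rfl⟩, hzV, -⟩ :=
    S.isBasis_affineOpens.exists_subset_of_mem_open (Set.mem_univ (g z)) isOpen_univ
  refine ⟨g ⁻¹ᵁ V, hzV, fun V' eV hV' => ?_⟩
  letI alg : Algebra Γ(S, V) Γ(S', V') := (g.appLE V V' eV).hom.toAlgebra
  haveI : Module.Flat Γ(S, V) Γ(S', V') := g.flat_appLE hV hV' eV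
  set H := (cC f I).homology n
  obtain ⟨sC, kC⟩ := CxTools.classes_affine hV (cC f I)
    (fun m => CohSections.acyclic_push_injective f V (I.cocomplex.X m)) hqC n
  obtain ⟨sD, kD⟩ := CxTools.classes_affine hV' (cD g' f' J)
    (fun m => CohSections.acyclic_push_injective f' V' (J.cocomplex.X m)) hqD n
  have hQ := qis_preimage f g g' f' w eV alg rfl I J η hη hc hV hV' le_rfl n
  obtain ⟨hQ1, hQ2⟩ := hQ
  have h' : f' ⁻¹ᵁ V' ≤ g' ⁻¹ᵁ (f ⁻¹ᵁ V) := fun x hx => by
    show f (g' x) ∈ V
    rw [← Scheme.Hom.comp_apply, w, Scheme.Hom.comp_apply]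
    exact eV hx
  have hle : f' ⁻¹ᵁ V' ≤ pr f' g' V' (f ⁻¹ᵁ V) := le_inf h' le_rfl
  have hge : pr f' g' V' (f ⁻¹ᵁ V) ≤ f' ⁻¹ᵁ V' := inf_le_right
  let Z := LinearMap.ker (secMap f (I.cocomplex.d n (n + 1)) (le_refl (f ⁻¹ᵁ V)))
  have hcls : ∀ s : Z, ∃ h, CxTools.IsClass (cC f I) n V s.1 h := fun s =>
    CxTools.exists_isClass (show ((cC f I).d n (n + 1)).app V s.1 = 0 from s.2)
  let cls : Z →ₗ[Γ(S, V)] Γ(H, V) :=
    { toFun := fun s => (hcls s).choose
      map_add' := fun a b => (hcls (a + b)).choose_spec.unique ((hcls a).choose_spec.add (hcls b).choose_spec)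
      map_smul' := fun a s => by
        refine (hcls (a • s)).choose_spec.unique ?_
        convert (hcls s).choose_spec.smul a using 1 <;> try rfl
        show (f.appLE V (f ⁻¹ᵁ V) le_rfl).hom a • (show Γ(I.cocomplex.X n, f ⁻¹ᵁ V) from s.1) =
          (f.app V).hom a • (show Γ(I.cocomplex.X n, f ⁻¹ᵁ V) from s.1)
        rw [Scheme.Hom.app_eq_appLE] }
  have hclsI : ∀ s : Z, CxTools.IsClass (cC f I) n V s.1 (cls s) := fun s => (hcls s).choose_spec
  have hclsS : Function.Surjective cls := fun h => by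
    obtain ⟨s, hs⟩ := sC h
    exact ⟨⟨s, hs.d_eq_zero⟩, (hclsI ⟨s, hs.d_eq_zero⟩).unique hs⟩
  letI : Module Γ(S, V) Γ((Scheme.Modules.pullback g).obj H, V') := Module.compHom _ (g.appLE V V' eV).hom
  haveI : IsScalarTower Γ(S, V) Γ(S', V') Γ((Scheme.Modules.pullback g).obj H, V') :=
    IsScalarTower.of_algebraMap_smul fun _ _ => rfl
  have hbc := Groth.L16.AffineBC.isBaseChange_pull g H hV hV' eV
  let p := (ComplexShape.up ℕ).prev n
  let T' : Γ(S', V') ⊗[Γ(S, V)] Z → Γ(J.cocomplex.X n, f' ⁻¹ᵁ V') := fun z =>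
    rs _ hle (T f g g' f' w eV alg rfl I J η le_rfl n (Z.subtype.lTensor _ z))
  let x : Γ(S', V') ⊗[Γ(S, V)] Z → Γ((Scheme.Modules.pullback g).obj H, V') := fun z =>
    hbc.equiv (cls.lTensor _ z)
  have key : ∀ z, CxTools.IsClass (cD g' f' J) n V' (T' z) ((ψ f g g' f' w I J η n).app V' (x z)) := fun z => by
    induction z using TensorProduct.induction_on with
    | zero =>
      simp only [T', x, map_zero, rs_zero]
      exact CxTools.isClass_zero
    | add a b ha hb =>
      simp only [T', x, map_add, rs_add]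
      exact ha.add hb
    | tmul c s =>
      have := isClass_ψ f g g' f' w I J η eV h' n (hclsI s) c
      convert this using 1
      · show rs _ hle (T f g g' f' w eV alg rfl I J η le_rfl n (c ⊗ₜ s.1)) = _
        rw [T_apply, β_tmul]
        refine (congrArg (rs _ hle) ((η.f n).app_smul _ _)).trans ?_
        refine (rs_smul _ hle _ _).trans ?_
        refine (congrArg₂ (· • ·) rfl ((congrArg (rs _ hle) (app_rs (η.f n) _ _)).trans (rs_rs _ _ hle _))).trans ?_
        refine congrArg (fun a : Γ(X', f' ⁻¹ᵁ V') => a • _) ?_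
        exact (ConcreteCategory.congr_hom (f'.appLE_map (inf_le_right) (homOfLE hle).op) c).trans
          (by rw [Scheme.Hom.app_eq_appLE])
      · show (ψ f g g' f' w I J η n).app V' (hbc.equiv (c ⊗ₜ cls s)) = _
        rw [IsBaseChange.equiv_tmul]
        rfl
  have hxS : Function.Surjective x := hbc.equiv.surjective.comp (LinearMap.lTensor_surjective _ hclsS)
  have hsub : Function.Injective (Z.subtype.lTensor Γ(S', V')) :=
    Module.Flat.lTensor_preserves_injective_linearMap _ Z.injective_subtype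
  refine ⟨(injective_iff_map_eq_zero _).2 fun a ha => ?_, fun t => ?_⟩
  · obtain ⟨z, rfl⟩ := hxS a
    have hk := key z
    rw [ha] at hk
    obtain ⟨y, hy⟩ := kD _ hk
    have hz : dB f alg I le_rfl n (n + 1) (Z.subtype.lTensor _ z) = 0 := by
      rw [dB, ← LinearMap.comp_apply, ← LinearMap.lTensor_comp,
        show (secMap f (I.cocomplex.d n (n + 1)) (le_refl (f ⁻¹ᵁ V))).comp Z.subtype = 0 from
          LinearMap.ext fun s => s.2, LinearMap.lTensor_zero]
      rfl
    obtain ⟨x', hx'⟩ := hQ1 _ hz ⟨rs _ hge y, by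
      have h2 := congrArg (rs (J.cocomplex.X n) hge)
        (show (J.cocomplex.d p n).app (f' ⁻¹ᵁ V') y = T' z from hy)
      rw [← app_rs] at h2
      exact (h2.trans ((rs_rs _ hle hge _).trans (rs_self _ _ _))).symm⟩
    let dZ : SecA f (I.cocomplex.X p) (le_refl (f ⁻¹ᵁ V)) →ₗ[Γ(S, V)] Z :=
      (secMap f (I.cocomplex.d p n) le_rfl).codRestrict Z fun s => LinearMap.mem_ker.2
        (congr($(congrArg (fun k => Scheme.Modules.Hom.app k (f ⁻¹ᵁ V)) (I.cocomplex.d_comp_d p n (n + 1))) s))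
    have hz' : z = dZ.lTensor _ x' := hsub (by
      rw [← LinearMap.comp_apply (LinearMap.lTensor _ Z.subtype), ← LinearMap.lTensor_comp,
        LinearMap.subtype_comp_codRestrict]
      exact hx')
    have h0 : cls.comp dZ = 0 := LinearMap.ext fun s =>
      (hclsI (dZ s)).unique (CxTools.isClass_d (K := cC f I) (n := n) p (show Γ((cC f I).X p, V) from s))
    show hbc.equiv (cls.lTensor _ z) = 0
    rw [hz', ← LinearMap.comp_apply (LinearMap.lTensor _ cls), ← LinearMap.lTensor_comp, h0, LinearMap.lTensor_zero]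
    exact map_zero _
  · obtain ⟨s', hs'⟩ := sD t
    have hd : (J.cocomplex.d n (n + 1)).app (pr f' g' V' (f ⁻¹ᵁ V)) (rs _ hge (show Γ(J.cocomplex.X n, f' ⁻¹ᵁ V') from s')) = 0 := by
      rw [app_rs, show (J.cocomplex.d n (n + 1)).app (f' ⁻¹ᵁ V') s' = 0 from hs'.d_eq_zero, rs_zero]
    obtain ⟨z, y, hz, hy⟩ := hQ2 _ hd
    obtain ⟨z₀, rfl⟩ := (Module.Flat.lTensor_exact Γ(S', V')
      (LinearMap.exact_subtype_ker_map (secMap f (I.cocomplex.d n (n + 1)) (le_refl (f ⁻¹ᵁ V)))) z).1 hz
    refine ⟨x z₀, CxTools.IsClass.unique ?_ hs'⟩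
    have h2 := (key z₀).add (CxTools.isClass_d (K := cD g' f' J) (n := n) (U := V') p (show Γ((cD g' f' J).X p, V') from rs (J.cocomplex.X p) hle y))
    rw [add_zero] at h2
    convert h2 using 1
    have h3 := congrArg (rs (J.cocomplex.X n) hle) hy
    rw [rs_rs, rs_self, rs_add] at h3
    exact h3.trans (congrArg _ (app_rs (J.cocomplex.d p n) hle y).symm)

/-- Flat base change. -/
theorem nonempty_iso (hc : IsPullback g' f' f g) [Flat g] (n : ℕ) :
    Nonempty ((Scheme.Modules.pullback g).obj ((Coh.Rpush f n).obj M) ≅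
      (Coh.Rpush f' n).obj ((Scheme.Modules.pullback g').obj M)) := by
  haveI : Flat g' := MorphismProperty.of_isPullback hc.flip inferInstance
  haveI := CxTools.preservesFiniteLimits_pullback g'
  obtain ⟨I⟩ : Nonempty (InjectiveResolution M) := HasInjectiveResolution.out
  obtain ⟨J⟩ : Nonempty (InjectiveResolution ((Scheme.Modules.pullback g').obj M)) := HasInjectiveResolution.out
  haveI := J.injective
  let G := Scheme.Modules.pullback g'
  haveI : G.PreservesHomology := inferInstance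
  obtain ⟨η, hη⟩ := CxTools.exists_chainMap (K := (G.mapHomologicalComplex _).obj I.cocomplex) (L := J.cocomplex)
    (G.map (I.ι.f 0)) (by show G.map _ ≫ G.map _ = 0; rw [← G.map_comp, I.ι_f_zero_comp_complex_d, G.map_zero])
    (I.exact₀.map G) (fun m => (I.exact_succ m).map G) (J.ι.f 0) J.ι_f_zero_comp_complex_d
  haveI := isIso_ψ f g g' f' hc.w I J η hc hη n
  exact ⟨(Scheme.Modules.pullback g).mapIso (I.isoRightDerivedObj (Scheme.Modules.pushforward f) n) ≪≫
    asIso (ψ f g g' f' hc.w I J η n) ≪≫ (J.isoRightDerivedObj (Scheme.Modules.pushforward f') n).symm⟩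

end Groth.L17.CxIso
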