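import Groth.Agent.L17.FlatBase.CxIso
import Groth.Prelude.Def_CohBC2

/-!
The prelude's base change morphism `CohBC.bcQ` is the comparison `ψ` of flat base change.
-/

set_option autoImplicit false
set_option linter.style.haveILetI false
set_option linter.unusedSectionVars false
set_option backward.isDefEq.respectTransparency false
set_option backward.isDefEq.respectTransparency.types false

universe v₁ v₂ u₁ u₂ u

open CategoryTheory CategoryTheory.Limits AlgebraicGeometry HomologicalComplex
noncomputable section

namespace Groth.L17.BcQ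

section Abstract

variable {A : Type u₁} [Category.{v₁} A] [Abelian A] {B : Type u₂} [Category.{v₂} B] [Abelian B]
  {F : A ⥤ B} {G : B ⥤ A} (adj : F ⊣ G) [F.Additive] [G.Additive]
  {C : CochainComplex A ℕ} {L : CochainComplex B ℕ}

/-- The transpose of a chain map. -/
def transposeMap (c : C ⟶ (G.mapHomologicalComplex _).obj L) : (F.mapHomologicalComplex _).obj C ⟶ L where
  f n := (adj.homEquiv _ _).symm (c.f n)
  comm' i j _ := by
    refine (adj.homEquiv_naturality_right_symm _ _).symm.trans (Eq.trans ?_ (adj.homEquiv_naturality_left_symm _ _))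
    exact congrArg _ (c.comm i j)

variable [PreservesFiniteLimits F] [PreservesFiniteColimits F] [PreservesFiniteLimits G]

/-- `homologyI` with its types spelled on complexes. -/
abbrev hI (C : CochainComplex A ℕ) (n : ℕ) (F : A ⥤ B) [F.Additive] [PreservesFiniteLimits F] [PreservesFiniteColimits F] :
    F.obj (C.homology n) ⟶ ((F.mapHomologicalComplex _).obj C).homology n :=
  (CxTools.homologyI F C n).inv

/-- `cyclesI` with its types spelled on complexes. -/
abbrev zI (C : CochainComplex A ℕ) (n : ℕ) (F : A ⥤ B) [F.Additive] [PreservesFiniteLimits F] [PreservesFiniteColimits F] :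
    F.obj (C.cycles n) ⟶ ((F.mapHomologicalComplex _).obj C).cycles n :=
  (CxTools.cyclesI F C n).inv

theorem homologyMap_comparison (c : C ⟶ (G.mapHomologicalComplex _).obj L)
    (u : (F.mapHomologicalComplex _).obj C ⟶ L) (h : ∀ n, u.f n = (adj.homEquiv _ _).symm (c.f n)) (n : ℕ) :
    homologyMap c n ≫ RDer.homologyComparison G L n =
      adj.homEquiv _ _ (hI C n F ≫ homologyMap u n) := by
  have hc : ∀ m, c.f m = adj.homEquiv _ _ (u.f m) := fun m => by rw [h, Equiv.apply_symm_apply]
  have e1 : F.map (C.homologyπ n) ≫ hI C n F = zI C n F ≫ ((F.mapHomologicalComplex _).obj C).homologyπ n := by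
    refine ((Iso.eq_inv_comp _).2 ?_)
    refine ((Category.assoc _ _ _).symm.trans ((Iso.comp_inv_eq _).2 ?_))
    exact (CxTools.π_homologyI F C n).symm
  have e2 : zI C n F ≫ ((F.mapHomologicalComplex _).obj C).iCycles n = F.map (C.iCycles n) :=
    (Iso.inv_comp_eq _).2 (CxTools.cyclesI_iCycles F C n).symm
  rw [← cancel_epi (C.homologyπ n), homologyπ_naturality_assoc, RDer.homologyπ_homologyComparison,
    ← adj.homEquiv_naturality_left, ← Category.assoc (F.map _), e1, Category.assoc, homologyπ_naturality,
    ← Category.assoc (zI C n F), adj.homEquiv_naturality_right, ← Category.assoc]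
  congr 1
  haveI : Mono (G.map (L.iCycles n)) := inferInstance
  rw [← cancel_mono (G.map (L.iCycles n)), Category.assoc, RDer.cyclesComparison_i, cyclesMap_i,
    ← adj.homEquiv_naturality_right, Category.assoc, cyclesMap_i, ← Category.assoc, e2, hc,
    ← adj.homEquiv_naturality_left]

end Abstract

section Schemes

open AlgebraicGeometry.Scheme.Modules Groth.L17.DegZero Groth.L17.CxIso

attribute [local instance] CxTools.additive_pullback CxTools.preservesFiniteColimits_pullback PushQCoh.additive_push

variable {X S X' S' : Scheme.{u}} (f : X ⟶ S) (g : S' ⟶ S) (g' : X' ⟶ X) (f' : X' ⟶ S') (w : g' ≫ f = f' ≫ g)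

/-- The identification of the two composite direct images. -/
abbrev sq : pushforward g' ⋙ pushforward f ≅ pushforward f' ⋙ pushforward g :=
  pushforwardComp g' f ≪≫ pushforwardCongr w ≪≫ (pushforwardComp f' g).symm

theorem vn_eq {P : X.Modules} {Q : X'.Modules} (χ : P ⟶ (pushforward g').obj Q) :
    (pushforward f).map χ ≫ (sq f g g' f' w).hom.app Q =
      vMap f g g' f' w P ≫ (pushforward g).map ((pushforward f').map
        (((pullbackPushforwardAdjunction g').homEquiv _ _).symm χ)) := by
  conv_lhs => rw [← ((pullbackPushforwardAdjunction g').homEquiv P Q).apply_symm_apply χ]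
  rw [Adjunction.homEquiv_unit, Functor.map_comp, Category.assoc]
  refine (congrArg (_ ≫ ·) ((sq f g g' f' w).hom.naturality _)).trans ?_
  simp only [vMap, Iso.trans_hom, Iso.symm_hom, NatTrans.comp_app, Category.assoc]
  rfl

variable [HasInjectiveResolutions X.Modules] [HasInjectiveResolutions X'.Modules]
  [PreservesFiniteLimits (Scheme.Modules.pullback g')] [PreservesFiniteLimits (Scheme.Modules.pullback g)]
  (M : X.Modules) (q : ℕ)

theorem exists_bcQ_eq :
    ∃ (η : ((Scheme.Modules.pullback g').mapHomologicalComplex _).obj (injectiveResolution M).cocomplex ⟶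
        (injectiveResolution ((Scheme.Modules.pullback g').obj M)).cocomplex),
      (Scheme.Modules.pullback g').map ((injectiveResolution M).ι.f 0) ≫ η.f 0 =
        (injectiveResolution ((Scheme.Modules.pullback g').obj M)).ι.f 0 ∧
      CohBC.bcQ f g f' g' w q M =
        (Scheme.Modules.pullback g).map ((injectiveResolution M).isoRightDerivedObj (pushforward f) q).hom ≫
          ψ f g g' f' w (injectiveResolution M) (injectiveResolution ((Scheme.Modules.pullback g').obj M)) η q ≫
          ((injectiveResolution ((Scheme.Modules.pullback g').obj M)).isoRightDerivedObj (pushforward f') q).inv := by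
  let G := (Scheme.Modules.pullback g').obj M
  let I := injectiveResolution M
  let J := injectiveResolution G
  let K := injectiveResolution ((pushforward g').obj G)
  haveI := I.injective
  haveI := J.injective
  haveI := K.injective
  let uM : M ⟶ (pushforward g').obj G := (pullbackPushforwardAdjunction g').unit.app M
  let a := RDer.descToInjectives uM I.cocomplex I.ι K.cocomplex K.ι
  let D := RDer.descToInjectives (𝟙 ((pushforward g').obj G)) K.cocomplex K.ι
    (((pushforward g').mapHomologicalComplex _).obj J.cocomplex) (RDer.mapAug (pushforward g') J.ι)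
  let χ := a ≫ D
  have hχ : I.ι.f 0 ≫ χ.f 0 = uM ≫ (pushforward g').map (J.ι.f 0) := by
    simp only [χ, a, D, comp_f, RDer.ι_descToInjectives_f_zero_assoc, RDer.ι_descToInjectives_f_zero,
      Category.id_comp]
    simp [singleMapHomologicalComplex_inv_app_self]
  refine ⟨transposeMap (pullbackPushforwardAdjunction g') χ, ?_, ?_⟩
  · show _ ≫ ((pullbackPushforwardAdjunction g').homEquiv _ _).symm (χ.f 0) = _
    rw [← Adjunction.homEquiv_naturality_left_symm, hχ, Equiv.symm_apply_eq, Adjunction.homEquiv_unit]
    rfl
  let c := ((pushforward f).mapHomologicalComplex _).map χ ≫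
    (NatTrans.mapHomologicalComplex (sq f g g' f' w).hom _).app J.cocomplex
  have hu : ∀ n, (u f g g' f' w I J (transposeMap (pullbackPushforwardAdjunction g') χ)).f n =
      ((pullbackPushforwardAdjunction g).homEquiv _ _).symm (c.f n) := fun n => by
    show ((pullbackPushforwardAdjunction g).homEquiv _ _).symm
        (vn f g g' f' w I J (transposeMap (pullbackPushforwardAdjunction g') χ) n) =
      ((pullbackPushforwardAdjunction g).homEquiv _ _).symm
        ((pushforward f).map (χ.f n) ≫ (sq f g g' f' w).hom.app (J.cocomplex.X n))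
    rw [vn_eq]
    rfl
  have key := homologyMap_comparison (pullbackPushforwardAdjunction g) (L := cD g' f' J) c
    (u f g g' f' w I J (transposeMap (pullbackPushforwardAdjunction g') χ)) hu q
  refine Eq.trans ?_ (Eq.refl ((Scheme.Modules.pullback g).map (I.isoRightDerivedObj (pushforward f) q).hom ≫
    (hI (cC f I) q (Scheme.Modules.pullback g) ≫ homologyMap (u f g g' f' w I J
      (transposeMap (pullbackPushforwardAdjunction g') χ)) q) ≫
    (J.isoRightDerivedObj (pushforward f') q).inv))
  refine (Equiv.symm_apply_eq _).2 ?_
  refine Eq.trans ?_ (Adjunction.homEquiv_naturality_left _ _ _).symm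
  refine Eq.trans ?_ (congrArg (_ ≫ ·) (Adjunction.homEquiv_naturality_right _ _ _).symm)
  refine Eq.trans ?_ (congrArg (fun z => _ ≫ z ≫ _) key)
  have h1 := InjectiveResolution.isoRightDerivedObj_hom_naturality uM I K a
    (RDer.ι_descToInjectives_f_zero _ _ _ _ _) (pushforward f) q
  have h2 : (CohBC.RpushSquareIso f g f' g' w q).hom.app G = _ :=
    InjectiveResolution.rightDerived_app_eq (sq f g g' f' w).hom J q
  rw [← Iso.eq_comp_inv] at h1
  simp only [CohBC.bcQAdj, Coh.Rpush, RDer.edgeIn, RDer.edgeOut]
  erw [h1, h2]
  simp only [Category.assoc, Iso.inv_hom_id_assoc, Functor.comp_map, homologyFunctor_map, c, χ, D, I, J, K, G,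
    Functor.map_comp, homologyMap_comp]

end Schemes

end Groth.L17.BcQ
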