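import Mathlib.Algebra.Homology.DerivedCategory.Ext.Map
import Mathlib.Algebra.Homology.DerivedCategory.Ext.ExactSequences
import Mathlib.Algebra.FiveLemma
import Mathlib.RingTheory.Flat.Basic
import Mathlib.LinearAlgebra.TensorProduct.Basic

/-!
The comparison map `N ⊗ Ext^q(P, F) → Ext^q(P', G)` attached to an exact functor `Φ`, morphisms
`P' ⟶ Φ P` and a family of morphisms `Φ F ⟶ G` indexed bilinearly by a flat module `N`.
-/

set_option autoImplicit false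

universe v v' w w' t u₁ u₂

open CategoryTheory CategoryTheory.Limits CategoryTheory.Abelian TensorProduct

namespace Groth.L17.ExtTheta

variable {C : Type u₁} [Category.{v} C] [Abelian C] [HasExt.{w} C]
  {D : Type u₂} [Category.{v'} D] [Abelian D] [HasExt.{w'} D]
  {A : Type t} [CommRing A] {F : C}

/-- `Ext` into `F`, as a module over a ring acting on `F`. -/
@[nolint unusedArguments]
def EA (_ρ : A →+* End F) (P : C) (q : ℕ) : Type w := Ext.{w} P F q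

variable (ρ : A →+* End F) {P Q R : C} (q : ℕ)

noncomputable instance : AddCommGroup (EA ρ P q) := inferInstanceAs (AddCommGroup (Ext.{w} P F q))

/-- The underlying class. -/
def EA.cls (x : EA ρ P q) : Ext.{w} P F q := x

/-- A class as an element. -/
def EA.mk (x : Ext.{w} P F q) : EA ρ P q := x

noncomputable instance : Module A (EA ρ P q) where
  smul a x := EA.mk ρ q ((EA.cls ρ q x).comp (Ext.mk₀ (ρ a)) (add_zero q))
  one_smul x := by
    change (EA.cls ρ q x).comp (Ext.mk₀ (ρ 1)) (add_zero q) = x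
    rw [map_one]
    exact Ext.comp_mk₀_id _
  mul_smul a b x := by
    change (EA.cls ρ q x).comp (Ext.mk₀ (ρ (a * b))) (add_zero q) =
      ((EA.cls ρ q x).comp (Ext.mk₀ (ρ b)) (add_zero q)).comp (Ext.mk₀ (ρ a)) (add_zero q)
    rw [map_mul, Ext.comp_assoc_of_third_deg_zero, Ext.mk₀_comp_mk₀]
    rfl
  smul_zero a := Ext.zero_comp P q (Ext.mk₀ (ρ a)) q (add_zero q)
  smul_add a x y := Ext.add_comp (EA.cls ρ q x) (EA.cls ρ q y) (Ext.mk₀ (ρ a)) (add_zero q)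
  add_smul a b x := by
    change (EA.cls ρ q x).comp (Ext.mk₀ (ρ (a + b))) (add_zero q) = _
    rw [map_add, Ext.mk₀_add, Ext.comp_add]
    rfl
  zero_smul x := by
    change (EA.cls ρ q x).comp (Ext.mk₀ (ρ 0)) (add_zero q) = _
    rw [map_zero, Ext.mk₀_zero, Ext.comp_zero]
    rfl

theorem smul_def (a : A) (x : EA ρ P q) :
    a • x = EA.mk ρ q ((EA.cls ρ q x).comp (Ext.mk₀ (ρ a)) (add_zero q)) := rfl

/-- Precomposition with a class. -/
noncomputable def pre {n m : ℕ} (e : Ext.{w} Q P n) {k : ℕ} (h : n + m = k) : EA ρ P m →ₗ[A] EA ρ Q k where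
  toFun x := EA.mk ρ k (e.comp (EA.cls ρ m x) h)
  map_add' x y := Ext.comp_add _ _ _ _
  map_smul' a x := (Ext.comp_assoc_of_third_deg_zero e (EA.cls ρ m x) (Ext.mk₀ (ρ a)) h).symm

theorem pre_apply {n m : ℕ} (e : Ext.{w} Q P n) {k : ℕ} (h : n + m = k) (x : EA ρ P m) :
    pre ρ e h x = EA.mk ρ k (e.comp (EA.cls ρ m x) h) := rfl

variable {G : D} (Φ : C ⥤ D) [Φ.Additive] [PreservesFiniteLimits Φ] [PreservesFiniteColimits Φ]
  {N : Type t} [AddCommGroup N] [Module A N] (μ : N →+ (Φ.obj F ⟶ G))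
  (hμ : ∀ (a : A) (n : N), μ (a • n) = Φ.map (ρ a) ≫ μ n)

variable {P' Q' R' : D}

/-- The pairing. -/
noncomputable def pair (c : P' ⟶ Φ.obj P) : N →+ EA ρ P q →+ Ext.{w'} P' G q :=
  AddMonoidHom.mk' (fun n => AddMonoidHom.mk'
      (fun x => (Ext.mk₀ c).comp (((EA.cls ρ q x).mapExactFunctor Φ).comp (Ext.mk₀ (μ n)) (add_zero q)) (zero_add q))
      (fun x y => by
        change (Ext.mk₀ c).comp (((EA.cls ρ q x + EA.cls ρ q y).mapExactFunctor Φ).comp _ _) _ = _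
        rw [Ext.mapExactFunctor_add, Ext.add_comp, Ext.comp_add]))
    (fun n n' => by
      ext x
      simp only [AddMonoidHom.mk'_apply, AddMonoidHom.add_apply]
      rw [map_add, Ext.mk₀_add, Ext.comp_add, Ext.comp_add])

omit [Module A N] in
theorem pair_apply (c : P' ⟶ Φ.obj P) (n : N) (x : EA ρ P q) :
    pair ρ q Φ μ c n x =
      (Ext.mk₀ c).comp (((EA.cls ρ q x).mapExactFunctor Φ).comp (Ext.mk₀ (μ n)) (add_zero q)) (zero_add q) :=
  rfl

theorem cls_mk (x : Ext.{w} P F q) : EA.cls ρ q (EA.mk ρ q x) = x := rfl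

include hμ in
theorem pair_smul (c : P' ⟶ Φ.obj P) (a : A) (n : N) (x : EA ρ P q) :
    pair ρ q Φ μ c (a • n) x = pair ρ q Φ μ c n (a • x) := by
  rw [pair_apply, pair_apply, smul_def, cls_mk]
  rw [Ext.mapExactFunctor_comp, Ext.mapExactFunctor_mk₀, Ext.comp_assoc_of_third_deg_zero,
    Ext.mk₀_comp_mk₀, hμ]

/-- The comparison map. -/
noncomputable def θ (c : P' ⟶ Φ.obj P) : N ⊗[A] EA ρ P q →+ Ext.{w'} P' G q :=
  TensorProduct.liftAddHom (pair ρ q Φ μ c) fun a n x => pair_smul ρ q Φ μ hμ c a n x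

theorem θ_tmul (c : P' ⟶ Φ.obj P) (n : N) (x : EA ρ P q) :
    θ ρ q Φ μ hμ c (n ⊗ₜ x) =
      (Ext.mk₀ c).comp (((EA.cls ρ q x).mapExactFunctor Φ).comp (Ext.mk₀ (μ n)) (add_zero q)) (zero_add q) :=
  rfl

/-- Naturality in the first argument, with a shift of degree. -/
theorem θ_pre {c : P' ⟶ Φ.obj P} {d : Q' ⟶ Φ.obj Q} {n m k : ℕ} (h : n + m = k)
    (e : Ext.{w} Q P n) (e' : Ext.{w'} Q' P' n)
    (hc : (Ext.mk₀ d).comp (e.mapExactFunctor Φ) (zero_add n) = e'.comp (Ext.mk₀ c) (add_zero n))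
    (z : N ⊗[A] EA ρ P m) :
    θ ρ k Φ μ hμ d ((pre ρ e h).lTensor N z) = e'.comp (θ ρ m Φ μ hμ c z) h := by
  induction z using TensorProduct.induction_on with
  | zero => simp
  | add x y hx hy => rw [map_add, map_add, hx, hy, map_add, Ext.comp_add]
  | tmul a x =>
    rw [LinearMap.lTensor_tmul, θ_tmul, θ_tmul]
    rw [pre_apply, cls_mk]
    rw [Ext.mapExactFunctor_comp, Ext.comp_assoc_of_third_deg_zero,
      ← Ext.comp_assoc (Ext.mk₀ d) (e.mapExactFunctor Φ) _ (zero_add n) h (by omega), hc,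
      Ext.comp_assoc_of_second_deg_zero]

/-- Naturality along morphisms. -/
theorem θ_mk₀ {c : P' ⟶ Φ.obj P} {d : Q' ⟶ Φ.obj Q} (f : Q ⟶ P) (f' : Q' ⟶ P')
    (hc : d ≫ Φ.map f = f' ≫ c) (z : N ⊗[A] EA ρ P q) :
    θ ρ q Φ μ hμ d ((pre ρ (Ext.mk₀ f) (zero_add q)).lTensor N z) =
      (Ext.mk₀ f').comp (θ ρ q Φ μ hμ c z) (zero_add q) :=
  θ_pre ρ Φ μ hμ (zero_add q) (Ext.mk₀ f) (Ext.mk₀ f')
    (by rw [Ext.mapExactFunctor_mk₀, Ext.mk₀_comp_mk₀, Ext.mk₀_comp_mk₀, hc]) z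

/-- Scalars acting on the target. -/
theorem θ_postcomp (c : P' ⟶ Φ.obj P) (s : G ⟶ G) (φ : N →ₗ[A] N) (hs : ∀ n, μ (φ n) = μ n ≫ s)
    (z : N ⊗[A] EA ρ P q) :
    θ ρ q Φ μ hμ c (φ.rTensor _ z) = (θ ρ q Φ μ hμ c z).comp (Ext.mk₀ s) (add_zero q) := by
  induction z using TensorProduct.induction_on with
  | zero => simp
  | add x y hx hy => rw [map_add, map_add, hx, hy, map_add, Ext.add_comp]
  | tmul a x =>
    rw [LinearMap.rTensor_tmul, θ_tmul, θ_tmul, hs]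
    simp only [← Ext.mk₀_comp_mk₀, Ext.comp_assoc_of_third_deg_zero]

/-- The comparison map of a biproduct. -/
theorem bijective_θ_biprod [HasBinaryBiproduct P Q] [HasBinaryBiproduct P' Q']
    {c : P' ⟶ Φ.obj P} {d : Q' ⟶ Φ.obj Q}
    (hP : Function.Bijective (θ ρ q Φ μ hμ c)) (hQ : Function.Bijective (θ ρ q Φ μ hμ d)) :
    Function.Bijective (θ ρ q Φ μ hμ
      (biprod.desc (c ≫ Φ.map biprod.inl) (d ≫ Φ.map biprod.inr) : P' ⊞ Q' ⟶ Φ.obj (P ⊞ Q))) := by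
  set b : P' ⊞ Q' ⟶ Φ.obj (P ⊞ Q) := biprod.desc (c ≫ Φ.map biprod.inl) (d ≫ Φ.map biprod.inr)
  have h1 : c ≫ Φ.map biprod.inl = biprod.inl ≫ b := (biprod.inl_desc _ _).symm
  have h2 : d ≫ Φ.map biprod.inr = biprod.inr ≫ b := (biprod.inr_desc _ _).symm
  have h3 : b ≫ Φ.map biprod.fst = biprod.fst ≫ c := by
    refine biprod.hom_ext' _ _ ?_ ?_
    · simp only [b, biprod.inl_desc_assoc, Category.assoc, ← Φ.map_comp, biprod.inl_fst_assoc, biprod.inl_fst]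
      simp
    · simp only [b, biprod.inr_desc_assoc, Category.assoc, ← Φ.map_comp, biprod.inr_fst_assoc, biprod.inr_fst]
      simp
  have h4 : b ≫ Φ.map biprod.snd = biprod.snd ≫ d := by
    refine biprod.hom_ext' _ _ ?_ ?_
    · simp only [b, biprod.inl_desc_assoc, Category.assoc, ← Φ.map_comp, biprod.inl_snd_assoc, biprod.inl_snd]
      simp
    · simp only [b, biprod.inr_desc_assoc, Category.assoc, ← Φ.map_comp, biprod.inr_snd_assoc, biprod.inr_snd]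
      simp
  have total : ∀ z : N ⊗[A] EA ρ (P ⊞ Q) q,
      (pre ρ (Ext.mk₀ (biprod.fst : P ⊞ Q ⟶ P)) (zero_add q)).lTensor N
          ((pre ρ (Ext.mk₀ (biprod.inl : P ⟶ P ⊞ Q)) (zero_add q)).lTensor N z) +
        (pre ρ (Ext.mk₀ (biprod.snd : P ⊞ Q ⟶ Q)) (zero_add q)).lTensor N
          ((pre ρ (Ext.mk₀ (biprod.inr : Q ⟶ P ⊞ Q)) (zero_add q)).lTensor N z) = z := fun z => by
    induction z using TensorProduct.induction_on with
    | zero => simp
    | add x y hx hy => simp only [map_add]; rw [add_add_add_comm, hx, hy]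
    | tmul a x =>
      simp only [LinearMap.lTensor_tmul, ← TensorProduct.tmul_add]
      congr 1
      simp only [pre_apply, cls_mk, Ext.mk₀_comp_mk₀_assoc]
      refine (Ext.add_comp (Ext.mk₀ _) (Ext.mk₀ _) (EA.cls ρ q x) (zero_add q)).symm.trans ?_
      rw [← Ext.mk₀_add, biprod.total, Ext.mk₀_id_comp]
      rfl
  refine ⟨(injective_iff_map_eq_zero _).2 fun z hz => ?_, fun y => ?_⟩
  · have e1 := θ_mk₀ ρ q Φ μ hμ biprod.inl biprod.inl h1 z
    have e2 := θ_mk₀ ρ q Φ μ hμ biprod.inr biprod.inr h2 z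
    rw [hz, Ext.comp_zero] at e1 e2
    rw [← total z, (injective_iff_map_eq_zero _).1 hP.1 _ e1, (injective_iff_map_eq_zero _).1 hQ.1 _ e2,
      map_zero, map_zero, add_zero]
  · obtain ⟨z₁, hz₁⟩ := hP.2 ((Ext.mk₀ (biprod.inl : P' ⟶ P' ⊞ Q')).comp y (zero_add q))
    obtain ⟨z₂, hz₂⟩ := hQ.2 ((Ext.mk₀ (biprod.inr : Q' ⟶ P' ⊞ Q')).comp y (zero_add q))
    refine ⟨(pre ρ (Ext.mk₀ biprod.fst) (zero_add q)).lTensor N z₁ +
      (pre ρ (Ext.mk₀ biprod.snd) (zero_add q)).lTensor N z₂, ?_⟩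
    rw [map_add, θ_mk₀ ρ q Φ μ hμ biprod.fst biprod.fst h3 z₁, θ_mk₀ ρ q Φ μ hμ biprod.snd biprod.snd h4 z₂,
      hz₁, hz₂, Ext.mk₀_comp_mk₀_assoc, Ext.mk₀_comp_mk₀_assoc, ← Ext.add_comp, ← Ext.mk₀_add, biprod.total,
      Ext.mk₀_id_comp]

section FiveLemma

variable [Module.Flat A N] {S : ShortComplex C} (hS : S.ShortExact) {S' : ShortComplex D} (hS' : S'.ShortExact)
  (τ : S' ⟶ S.map Φ)

include hS in
theorem exact_fg (n : ℕ) : Function.Exact (pre ρ (Ext.mk₀ S.g) (zero_add n)) (pre ρ (Ext.mk₀ S.f) (zero_add n)) :=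
  fun x => ⟨fun hx => Ext.contravariant_sequence_exact₂ hS F (EA.cls ρ n x) hx, by
    rintro ⟨y, rfl⟩
    simp only [pre_apply, cls_mk, Ext.mk₀_comp_mk₀_assoc, S.zero, Ext.mk₀_zero, Ext.zero_comp]
    rfl⟩

include hS in
theorem exact_fδ {n m : ℕ} (h : 1 + n = m) :
    Function.Exact (pre ρ (Ext.mk₀ S.f) (zero_add n)) (pre ρ hS.extClass h) :=
  fun x => ⟨fun hx => Ext.contravariant_sequence_exact₁ hS F (EA.cls ρ n x) h hx, by
    rintro ⟨y, rfl⟩
    exact hS.extClass_comp_assoc (EA.cls ρ n y) (h := h)⟩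

include hS in
theorem exact_δg {n m : ℕ} (h : 1 + n = m) :
    Function.Exact (pre ρ hS.extClass h) (pre ρ (Ext.mk₀ S.g) (zero_add m)) :=
  fun x => ⟨fun hx => Ext.contravariant_sequence_exact₃ hS F (EA.cls ρ m x) hx h, by
    rintro ⟨y, rfl⟩
    simp only [pre_apply, cls_mk]
    rw [← Ext.comp_assoc (Ext.mk₀ S.g) hS.extClass _ (zero_add 1) h (by omega), hS.comp_extClass,
      Ext.zero_comp]
    rfl⟩

theorem pre_δ_compat (τ : S' ⟶ S.map Φ) :
    (Ext.mk₀ τ.τ₃).comp (hS.extClass.mapExactFunctor Φ) (zero_add 1) =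
      hS'.extClass.comp (Ext.mk₀ τ.τ₁) (add_zero 1) := by
  rw [Ext.mapExactFunctor_extClass]
  exact (ShortComplex.ShortExact.extClass_naturality hS' (hS.map_of_exact Φ) τ).symm

include hS hS' in
/-- The five lemma for the comparison maps. -/
theorem bijective_θ_three (q : ℕ) (h₁ : ∀ n, Function.Bijective (θ ρ n Φ μ hμ τ.τ₁))
    (h₂ : ∀ n, Function.Bijective (θ ρ n Φ μ hμ τ.τ₂)) : Function.Bijective (θ ρ q Φ μ hμ τ.τ₃) := by
  have c23 : ∀ (n : ℕ) (z : N ⊗[A] EA ρ S.X₃ n),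
      θ ρ n Φ μ hμ τ.τ₂ ((pre ρ (Ext.mk₀ S.g) (zero_add n)).lTensor N z) =
        (Ext.mk₀ S'.g).comp (θ ρ n Φ μ hμ τ.τ₃ z) (zero_add n) :=
    fun n z => θ_mk₀ ρ n Φ μ hμ S.g S'.g τ.comm₂₃ z
  have c12 : ∀ (n : ℕ) (z : N ⊗[A] EA ρ S.X₂ n),
      θ ρ n Φ μ hμ τ.τ₁ ((pre ρ (Ext.mk₀ S.f) (zero_add n)).lTensor N z) =
        (Ext.mk₀ S'.f).comp (θ ρ n Φ μ hμ τ.τ₂ z) (zero_add n) :=
    fun n z => θ_mk₀ ρ n Φ μ hμ S.f S'.f τ.comm₁₂ z
  cases q with
  | zero =>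
    have ig : Function.Injective ((pre ρ (Ext.mk₀ S.g) (zero_add 0)).lTensor N) := by
      refine Module.Flat.lTensor_preserves_injective_linearMap _ ?_
      have := hS.epi_g
      exact Ext.precomp_mk₀_injective_of_epi F S.g
    refine ⟨(injective_iff_map_eq_zero _).2 fun z hz => ?_, fun y => ?_⟩
    · apply ig
      apply (h₂ 0).1
      rw [c23, hz, Ext.comp_zero, map_zero, map_zero]
    · obtain ⟨z₂, hz₂⟩ := (h₂ 0).2 ((Ext.mk₀ S'.g).comp y (zero_add 0))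
      have h0 : (pre ρ (Ext.mk₀ S.f) (zero_add 0)).lTensor N z₂ = 0 := by
        apply (h₁ 0).1
        rw [c12, hz₂, Ext.mk₀_comp_mk₀_assoc, S'.zero, Ext.mk₀_zero, Ext.zero_comp, map_zero]
      obtain ⟨z, rfl⟩ := (Module.Flat.lTensor_exact N (exact_fg ρ hS 0) z₂).1 h0
      refine ⟨z, ?_⟩
      have := hS'.epi_g
      exact Ext.precomp_mk₀_injective_of_epi G S'.g ((c23 0 z).symm.trans hz₂)
  | succ n =>
    have h : 1 + n = n + 1 := add_comm 1 n
    refine AddMonoidHom.bijective_of_surjective_of_bijective_of_bijective_of_injective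
      (M₁ := N ⊗[A] EA ρ S.X₂ n) (M₂ := N ⊗[A] EA ρ S.X₁ n) (M₄ := N ⊗[A] EA ρ S.X₂ (n + 1))
      (M₅ := N ⊗[A] EA ρ S.X₁ (n + 1))
      ((pre ρ (Ext.mk₀ S.f) (zero_add n)).lTensor N).toAddMonoidHom
      ((pre ρ hS.extClass h).lTensor N).toAddMonoidHom
      ((pre ρ (Ext.mk₀ S.g) (zero_add (n + 1))).lTensor N).toAddMonoidHom
      ((pre ρ (Ext.mk₀ S.f) (zero_add (n + 1))).lTensor N).toAddMonoidHom
      ((Ext.mk₀ S'.f).precomp G (zero_add n))
      (hS'.extClass.precomp G h)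
      ((Ext.mk₀ S'.g).precomp G (zero_add (n + 1)))
      ((Ext.mk₀ S'.f).precomp G (zero_add (n + 1)))
      (θ ρ n Φ μ hμ τ.τ₂) (θ ρ n Φ μ hμ τ.τ₁) _
      (θ ρ (n + 1) Φ μ hμ τ.τ₂) (θ ρ (n + 1) Φ μ hμ τ.τ₁)
      ?_ ?_ ?_ ?_ ?_ ?_ ?_ ?_ ?_ ?_ (h₂ n).2 (h₁ n) (h₂ (n + 1)) (h₁ (n + 1)).1
    · exact AddMonoidHom.ext fun z => (c12 n z).symm
    · exact AddMonoidHom.ext fun z =>
        (θ_pre ρ Φ μ hμ h hS.extClass hS'.extClass (pre_δ_compat Φ hS hS' τ) z).symm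
    · exact AddMonoidHom.ext fun z => (c23 (n + 1) z).symm
    · exact AddMonoidHom.ext fun z => (c12 (n + 1) z).symm
    · exact Module.Flat.lTensor_exact N (exact_fδ ρ hS h)
    · exact Module.Flat.lTensor_exact N (exact_δg ρ hS h)
    · exact Module.Flat.lTensor_exact N (exact_fg ρ hS (n + 1))
    · exact fun x => ⟨fun hx => Ext.contravariant_sequence_exact₁ hS' G x h hx, by
        rintro ⟨y, rfl⟩; exact hS'.extClass_comp_assoc y (h := h)⟩
    · exact fun x => ⟨fun hx => Ext.contravariant_sequence_exact₃ hS' G x hx h, by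
        rintro ⟨y, rfl⟩
        refine (Ext.comp_assoc (Ext.mk₀ S'.g) hS'.extClass y (zero_add 1) h (by omega)).symm.trans ?_
        rw [hS'.comp_extClass, Ext.zero_comp]⟩
    · exact fun x => ⟨fun hx => Ext.contravariant_sequence_exact₂ hS' G x hx, by
        rintro ⟨y, rfl⟩
        refine (Ext.mk₀_comp_mk₀_assoc _ _ _).trans ?_
        rw [S'.zero, Ext.mk₀_zero, Ext.zero_comp]⟩

end FiveLemma

end Groth.L17.ExtTheta
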