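import Groth.Agent.L17.FlatBase.PullTheta
import Groth.Agent.L16.PushEdge
import Mathlib.Algebra.Module.Projective
import Mathlib.Topology.Sheaves.SheafCondition.Sites
import Mathlib.RingTheory.Finiteness.Projective

/-!
Base change of cohomology along finite projective algebras, on any scheme.
-/

set_option autoImplicit false
set_option linter.style.haveILetI false
set_option linter.unusedSectionVars false
set_option backward.isDefEq.respectTransparency false
set_option backward.isDefEq.respectTransparency.types false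

universe u

open CategoryTheory CategoryTheory.Limits AlgebraicGeometry TopologicalSpace Opposite Abelian
open scoped TensorProduct
noncomputable section

namespace Groth.L17.FinProjBC

open Groth.L17.PullTheta

variable {A B : Type u} [CommRing A] [CommRing B] [Algebra A B] {X X' : Scheme.{u}}
  (f : X ⟶ Spec (CommRingCat.of A)) (f' : X' ⟶ Spec (CommRingCat.of B)) (g : X' ⟶ X)
  (sq : IsPullback g f' f (Spec.map (CommRingCat.ofHom (algebraMap A B)))) (F : X.Modules)

/-- The pushed forward pullback, as an abelian sheaf. -/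
abbrev PA : Sheaf (Opens.grothendieckTopology X) AddCommGrpCat.{u} :=
  (SheafTheta.pushAb (X := X.toTopCat) (X' := X'.toTopCat) g.base).obj (Coh.toAb ((Scheme.Modules.pullback g).obj F))

theorem isBasis_affine :
    Opens.IsBasis (Set.range fun W : X.affineOpens => (W : X.Opens)) := by
  convert X.isBasis_affineOpens
  exact Subtype.range_coe

/-- Two maps of abelian sheaves agreeing on affine opens agree. -/
theorem ext_affine {F₁ F₂ : Sheaf (Opens.grothendieckTopology X) AddCommGrpCat.{u}} (α β : F₁ ⟶ F₂)
    (h : ∀ W : X.Opens, IsAffineOpen W → ∀ m, α.hom.app (op W) m = β.hom.app (op W) m) : α = β := by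
  apply Sheaf.hom_ext
  refine TopCat.Sheaf.hom_ext (X := X.toTopCat) F₁.obj F₂ (B := fun W : X.affineOpens => (W : X.Opens)) isBasis_affine
    fun W => ?_
  exact ConcreteCategory.hom_ext _ _ (h W.1 W.2)

include sq in
/-- The contraction with a linear form on `B`. -/
theorem exists_contract [Coh.IsQCoh F] (σ : B →ₗ[A] A) :
    ∃ π : PA g F ⟶ Coh.toAb F, ∀ b : B, fam f' g F b ≫ π = Coh.smulAb F (Coh.toGlobal f (σ b)) := by
  choose bW hbW hbW' using fun (W : X.affineOpens) => bijOn f f' g sq F W.1 W.2
  let e : ∀ W : X.affineOpens, B ⊗[A] BC.Sec (Coh.toGlobal f) F W.1 ≃+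
      Γ((Scheme.Modules.pullback g).obj F, g ⁻¹ᵁ W.1) := fun W => AddEquiv.ofBijective (bW W) (hbW W)
  let ls : ∀ W : X.affineOpens, B ⊗[A] BC.Sec (Coh.toGlobal f) F W.1 →ₗ[A] BC.Sec (Coh.toGlobal f) F W.1 :=
    fun W => (TensorProduct.lid A _).toLinearMap.comp (σ.rTensor _)
  let p : ∀ W : X.affineOpens, Γ((Scheme.Modules.pullback g).obj F, g ⁻¹ᵁ W.1) →+ Γ(F, W.1) := fun W =>
    (ls W).toAddMonoidHom.comp (e W).symm.toAddMonoidHom
  have hp : ∀ (W : X.affineOpens) (b : B) (m : Γ(F, W.1)),
      p W ((fam f' g F b).hom.app (op W.1) m) = (Coh.smulAb F (Coh.toGlobal f (σ b))).hom.app (op W.1) m := by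
    intro W b m
    have : (e W).symm ((fam f' g F b).hom.app (op W.1) m) = b ⊗ₜ (show BC.Sec (Coh.toGlobal f) F W.1 from m) :=
      (e W).injective (((e W).apply_symm_apply _).trans (hbW' W b m).symm)
    show ls W ((e W).symm _) = _
    rw [this]
    show σ b • (show BC.Sec (Coh.toGlobal f) F W.1 from m) = _
    exact (Coh.smulAb_app F (Coh.toGlobal f (σ b)) (op W.1) m).symm
  let I : X.affineOpens → X.Opens := fun W => W.1
  have hI : Opens.IsBasis (Set.range I) := isBasis_affine
  let α : (inducedFunctor I).op ⋙ (PA g F).obj ⟶ (inducedFunctor I).op ⋙ (Coh.toAb F).obj :=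
    { app := fun W => AddCommGrpCat.ofHom (p W.unop)
      naturality := fun W W' j => by
        ext y
        obtain ⟨z, hz⟩ := (e W.unop).surjective y
        subst hz
        induction z using TensorProduct.induction_on with
        | zero => simp only [map_zero]
        | add a b ha hb => simp only [map_add, ha, hb]
        | tmul b m =>
          show p W'.unop ((PA g F).obj.map ((inducedFunctor I).op.map j) (bW W.unop (b ⊗ₜ m))) =
            (Coh.toAb F).obj.map ((inducedFunctor I).op.map j) (p W.unop (bW W.unop (b ⊗ₜ m)))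
          rw [hbW' W.unop b m]
          refine (congrArg (p W'.unop) (ConcreteCategory.congr_hom
            ((fam f' g F b).hom.naturality ((inducedFunctor I).op.map j)) m).symm).trans ?_
          refine (hp W'.unop b _).trans ?_
          refine Eq.trans ?_ (congrArg _ (hp W.unop b m)).symm
          exact ConcreteCategory.congr_hom
            ((Coh.smulAb F (Coh.toGlobal f (σ b))).hom.naturality ((inducedFunctor I).op.map j)) m }
  refine ⟨⟨TopCat.Sheaf.restrictHomEquivHom (PA g F).obj (Coh.toAb F) hI α⟩, fun b => ext_affine _ _ fun W hW m => ?_⟩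
  show (TopCat.Sheaf.restrictHomEquivHom (PA g F).obj (Coh.toAb F) hI α).app (op W)
    ((fam f' g F b).hom.app (op W) m) = _
  refine (ConcreteCategory.congr_hom (TopCat.Sheaf.extend_hom_app (PA g F).obj (Coh.toAb F) hI α ⟨W, hW⟩) _).trans ?_
  exact hp ⟨W, hW⟩ b m

include sq in
/-- Base change of cohomology along a finite projective algebra. -/
theorem exists_equiv_finProj [Module.Finite A B] [Module.Projective A B] [Coh.IsQCoh F] (q : ℕ) :
    letI : Module A (Coh.HH X F q) := Module.compHom _ (Coh.toGlobal f)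
    letI : Module B (Coh.HH X' ((Scheme.Modules.pullback g).obj F) q) := Module.compHom _ (Coh.toGlobal f')
    Nonempty (B ⊗[A] Coh.HH X F q ≃ₗ[B] Coh.HH X' ((Scheme.Modules.pullback g).obj F) q) := by
  letI : Module A (Coh.HH X F q) := Module.compHom _ (Coh.toGlobal f)
  letI : Module B (Coh.HH X' ((Scheme.Modules.pullback g).obj F) q) := Module.compHom _ (Coh.toGlobal f')
  haveI := BC.isAffineHom_of_isPullback f f' g sq
  haveI : Coh.IsQCoh ((Scheme.Modules.pullback g).obj F) := Groth.L16.AffineBC.isQCoh_pullback g F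
  obtain ⟨n, P, S, hP, hS, hPS⟩ := Module.Finite.exists_comp_eq_id_of_projective A B
  let e : Fin n → B := fun j => P (Pi.single j 1)
  let σ : Fin n → (B →ₗ[A] A) := fun j => (LinearMap.proj j).comp S
  have hsum : ∀ b : B, ∑ j, σ j b • e j = b := fun b => by
    have h1 : P (∑ j, S b j • Pi.single j (1 : A)) = b := by
      rw [← pi_eq_sum_univ' (S b)]
      exact LinearMap.congr_fun hPS b
    rw [map_sum] at h1
    simp only [map_smul] at h1
    exact h1
  choose π hπ using fun j => exists_contract f f' g sq F (σ j)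
  have hrec : ∑ j, π j ≫ fam f' g F (e j) = 𝟙 (PA g F) := ext_affine _ _ fun W hW y => by
    obtain ⟨b, hb, hbe⟩ := bijOn f f' g sq F W hW
    obtain ⟨z, rfl⟩ := hb.2 y
    induction z using TensorProduct.induction_on with
    | zero => simp only [map_zero]
    | add a c ha hc => simp only [map_add, ha, hc]
    | tmul c m =>
      have key : fam f' g F c ≫ (∑ j, π j ≫ fam f' g F (e j)) = fam f' g F c := by
        rw [Preadditive.comp_sum]
        calc ∑ j, fam f' g F c ≫ π j ≫ fam f' g F (e j)
            = ∑ j, fam f' g F (σ j c • e j) := Finset.sum_congr rfl fun j _ => by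
              rw [← Category.assoc, hπ j c, fam_smul f f' g sq F]
          _ = fam f' g F c := by rw [← map_sum, hsum]
      rw [hbe c m]
      exact congrArg (fun k : Coh.toAb F ⟶ PA g F => k.hom.app (op W) m) key
  let EP : Sheaf.H (PA g F) q →+ Coh.HH X' ((Scheme.Modules.pullback g).obj F) q :=
    Groth.L16.PushEdge.edge (X := X'.toTopCat) (Y := X.toTopCat) g.base (Coh.toAb ((Scheme.Modules.pullback g).obj F)) q
  have hEP : Function.Bijective EP :=
    Groth.L16.PushEdge.edge_bijective (X := X'.toTopCat) (Y := X.toTopCat) g.base q _ (locAcyclic_of_isAffineHom g _)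
  let E := AddEquiv.ofBijective EP hEP
  let μ : B →+ Coh.HH X F q →+ Sheaf.H (PA g F) q := AddMonoidHom.mk' (fun b => Sheaf.H.map (fam f' g F b) q)
    fun b c => AddMonoidHom.ext fun x => by
      show x.comp (Ext.mk₀ (fam f' g F (b + c))) (add_zero q) =
        x.comp (Ext.mk₀ (fam f' g F b)) (add_zero q) + x.comp (Ext.mk₀ (fam f' g F c)) (add_zero q)
      rw [map_add, Ext.mk₀_add, Ext.comp_add]
  let μT : B ⊗[A] Coh.HH X F q →+ Sheaf.H (PA g F) q := TensorProduct.liftAddHom μ fun a b x => by
    show Sheaf.H.map (fam f' g F (a • b)) q x =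
      Sheaf.H.map (fam f' g F b) q (Sheaf.H.map (Coh.smulAb F (Coh.toGlobal f a)) q x)
    rw [fam_smul f f' g sq F, Sheaf.H.map_comp_apply]
  let ν : Sheaf.H (PA g F) q →+ B ⊗[A] Coh.HH X F q :=
    ∑ j, ((TensorProduct.mk A B (Coh.HH X F q) (e j)).toAddMonoidHom.comp (Sheaf.H.map (π j) q))
  have h1 : ∀ z, ν (μT z) = z := fun z => by
    induction z using TensorProduct.induction_on with
    | zero => simp only [map_zero]
    | add a c ha hc => simp only [map_add, ha, hc]
    | tmul b x =>
      show (∑ j, ((TensorProduct.mk A B (Coh.HH X F q) (e j)).toAddMonoidHom.comp (Sheaf.H.map (π j) q)))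
        (Sheaf.H.map (fam f' g F b) q x) = b ⊗ₜ x
      rw [AddMonoidHom.finsetSum_apply]
      calc ∑ j, e j ⊗ₜ[A] Sheaf.H.map (π j) q (Sheaf.H.map (fam f' g F b) q x)
          = ∑ j, (σ j b • e j) ⊗ₜ[A] x := Finset.sum_congr rfl fun j _ => by
            rw [TensorProduct.smul_tmul]
            exact congrArg (e j ⊗ₜ[A] ·)
              ((Sheaf.H.map_comp_apply _ _ _).symm.trans (congrArg (fun s => Sheaf.H.map s q x) (hπ j b)))
        _ = b ⊗ₜ x := by rw [← TensorProduct.sum_tmul, hsum]
  have h2 : ∀ y, μT (ν y) = y := fun y => by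
    show μT ((∑ j, ((TensorProduct.mk A B (Coh.HH X F q) (e j)).toAddMonoidHom.comp (Sheaf.H.map (π j) q))) y) = y
    rw [AddMonoidHom.finsetSum_apply, map_sum]
    calc ∑ j, Sheaf.H.map (fam f' g F (e j)) q (Sheaf.H.map (π j) q y)
        = ∑ j, y.comp (Ext.mk₀ (π j ≫ fam f' g F (e j))) (add_zero q) := Finset.sum_congr rfl fun j _ => by
          rw [← Sheaf.H.map_comp_apply]; rfl
      _ = y.comp (Ext.mk₀ (∑ j, π j ≫ fam f' g F (e j))) (add_zero q) := by
          rw [Ext.mk₀_sum, Ext.comp_sum]
      _ = y := by rw [hrec]; exact Ext.comp_mk₀_id y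
  let T : B ⊗[A] Coh.HH X F q ≃+ Sheaf.H (PA g F) q :=
    { toFun := μT, invFun := ν, left_inv := h1, right_inv := h2, map_add' := map_add μT }
  refine ⟨{ T.trans E with map_smul' := fun c z => ?_ }⟩
  show EP (μT (c • z)) = Coh.toGlobal f' c • EP (μT z)
  induction z using TensorProduct.induction_on with
  | zero => simp only [smul_zero, map_zero]
  | add a d ha hd => simp only [smul_add, map_add, ha, hd]
  | tmul b x =>
    rw [TensorProduct.smul_tmul']
    show EP (Sheaf.H.map (fam f' g F (c • b)) q x) = _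
    rw [fam_smul', Sheaf.H.map_comp_apply]
    exact Groth.L16.PushEdge.edge_natural (X := X'.toTopCat) (Y := X.toTopCat) g.base
      (Coh.smulAb ((Scheme.Modules.pullback g).obj F) (Coh.toGlobal f' c)) q (Sheaf.H.map (fam f' g F b) q x)

end Groth.L17.FinProjBC
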