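import Groth.Agent.L17.FlatBase.SchemeTheta
import Groth.Agent.L17.BC.Change
import Groth.Agent.L16.PushCompare
import Groth.Agent.L16.CohLinear

/-!
Flat base change of cohomology over an affine base.
-/

set_option autoImplicit false
set_option linter.style.haveILetI false
set_option backward.isDefEq.respectTransparency false

universe u

open CategoryTheory CategoryTheory.Limits AlgebraicGeometry TopologicalSpace Opposite Abelian
open scoped TensorProduct
noncomputable section

namespace Groth.L17.PullTheta

variable {A B : Type u} [CommRing A] [CommRing B] [Algebra A B] {X X' : Scheme.{u}}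
  (f : X ⟶ Spec (CommRingCat.of A)) (f' : X' ⟶ Spec (CommRingCat.of B)) (g : X' ⟶ X)
  (sq : IsPullback g f' f (Spec.map (CommRingCat.ofHom (algebraMap A B)))) (F : X.Modules)

/-- The unit followed by a scalar. -/
def fam : B →+ (Coh.toAb F ⟶ (SheafTheta.pushAb (X := X.toTopCat) (X' := X'.toTopCat) g.base).obj
    (Coh.toAb ((Scheme.Modules.pullback g).obj F))) :=
  AddMonoidHom.mk' (fun b => Groth.L16.CohLinear.tm ((Scheme.Modules.pullbackPushforwardAdjunction g).unit.app F) ≫
      (SheafTheta.pushAb (X := X.toTopCat) (X' := X'.toTopCat) g.base).map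
        (Coh.smulAb ((Scheme.Modules.pullback g).obj F) (Coh.toGlobal f' b)))
    fun a b => by rw [map_add, Coh.smulAb_add, Functor.map_add, Preadditive.comp_add]

include sq in
theorem fam_smul (a : A) (b : B) :
    fam f' g F (a • b) = Coh.smulAb F (Coh.toGlobal f a) ≫ fam f' g F b := by
  have hc : g.appTop (Coh.toGlobal f a) = Coh.toGlobal f' (algebraMap A B a) :=
    BC.compat_of_isPullback f f' g sq a
  have h := Groth.L16.PushCompare.smulAb_push g ((Scheme.Modules.pullback g).obj F) (Coh.toGlobal f a)
  have n := Groth.L16.CohLinear.smulAb_naturality ((Scheme.Modules.pullbackPushforwardAdjunction g).unit.app F)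
    (Coh.toGlobal f a)
  have hb : Coh.smulAb ((Scheme.Modules.pullback g).obj F) (Coh.toGlobal f' (a • b)) =
      Coh.smulAb ((Scheme.Modules.pullback g).obj F) (g.appTop (Coh.toGlobal f a)) ≫
        Coh.smulAb ((Scheme.Modules.pullback g).obj F) (Coh.toGlobal f' b) := by
    rw [show a • b = b * algebraMap A B a from (Algebra.smul_def a b).trans (mul_comm _ _), map_mul, Coh.smulAb_mul, ← hc]
  let P := SheafTheta.pushAb (X := X.toTopCat) (X' := X'.toTopCat) g.base
  exact (congrArg (fun s => Groth.L16.CohLinear.tm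
        ((Scheme.Modules.pullbackPushforwardAdjunction g).unit.app F) ≫ P.map s) hb).trans
    ((congrArg (fun s => _ ≫ s) ((P.map_comp _ _).trans (congrArg (fun s => s ≫ _) h.symm))).trans
      (((Category.assoc _ _ _).symm.trans (congrArg (fun s => s ≫ _) n.symm)).trans (Category.assoc _ _ _)))

theorem fam_smul' (c b : B) :
    fam f' g F (c • b) = fam f' g F b ≫ (SheafTheta.pushAb (X := X.toTopCat) (X' := X'.toTopCat) g.base).map
      (Coh.smulAb ((Scheme.Modules.pullback g).obj F) (Coh.toGlobal f' c)) := by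
  let P := SheafTheta.pushAb (X := X.toTopCat) (X' := X'.toTopCat) g.base
  have hb : Coh.smulAb ((Scheme.Modules.pullback g).obj F) (Coh.toGlobal f' (c • b)) =
      Coh.smulAb ((Scheme.Modules.pullback g).obj F) (Coh.toGlobal f' b) ≫
        Coh.smulAb ((Scheme.Modules.pullback g).obj F) (Coh.toGlobal f' c) := by
    rw [smul_eq_mul, map_mul, Coh.smulAb_mul]
  exact (congrArg (fun s => Groth.L16.CohLinear.tm
        ((Scheme.Modules.pullbackPushforwardAdjunction g).unit.app F) ≫ P.map s) hb).trans
    ((congrArg (fun s => _ ≫ s) (P.map_comp _ _)).trans (Category.assoc _ _ _).symm)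

include sq in
theorem bijOn [Coh.IsQCoh F] (W : X.Opens) (hW : IsAffineOpen W) :
    SchemeTheta.BijOn g (Coh.toGlobal f) (fam f' g F) W := by
  have hc := BC.compat_of_isPullback f f' g sq
  have hbc := BC.hasBC_of_isPullback f f' g sq F W hW (g ⁻¹ᵁ W) rfl
  refine ⟨hbc.equiv.toAddEquiv.toAddMonoidHom, hbc.equiv.bijective, fun n m => ?_⟩
  refine (hbc.equiv_tmul n m).trans ?_
  change BC.act (Coh.toGlobal f') (g ⁻¹ᵁ W) n •
      Groth.L18.Frame.rs _ le_rfl (Groth.L18.Frame.pull g F W m) = _
  rw [Groth.L18.Frame.rs_self]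
  exact (Coh.smulAb_app ((Scheme.Modules.pullback g).obj F) (Coh.toGlobal f' n) (op (g ⁻¹ᵁ W)) _).symm

include sq in
/-- Flat base change of cohomology. -/
theorem exists_equiv [Module.Flat A B] [CompactSpace X] [QuasiSeparatedSpace X] [Coh.IsQCoh F] (q : ℕ) :
    letI : Module A (Coh.HH X F q) := Module.compHom _ (Coh.toGlobal f)
    letI : Module B (Coh.HH X' ((Scheme.Modules.pullback g).obj F) q) := Module.compHom _ (Coh.toGlobal f')
    Nonempty (B ⊗[A] Coh.HH X F q ≃ₗ[B] Coh.HH X' ((Scheme.Modules.pullback g).obj F) q) := by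
  haveI := BC.isAffineHom_of_isPullback f f' g sq
  haveI : Coh.IsQCoh ((Scheme.Modules.pullback g).obj F) := Groth.L16.AffineBC.isQCoh_pullback g F
  exact SchemeTheta.exists_cohom_equiv g (Coh.toGlobal f) (Coh.toGlobal f') (fam f' g F)
    (fam_smul f f' g sq F) (fam_smul' f' g F) (bijOn f f' g sq F) q

end Groth.L17.PullTheta
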