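import Groth.Agent.L17.FlatBase.SheafTheta
import Groth.Agent.L17.AffineVanishing
import Groth.Agent.L17.BC.CechA
import Mathlib.AlgebraicGeometry.Morphisms.QuasiSeparated
import Mathlib.AlgebraicGeometry.Morphisms.Affine

/-!
Cohomology after a base change by a flat module, from the comparison on affine opens.
-/

set_option autoImplicit false
set_option linter.style.haveILetI false
set_option backward.isDefEq.respectTransparency false

universe u

open CategoryTheory CategoryTheory.Limits AlgebraicGeometry TopologicalSpace Opposite Abelian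
open scoped TensorProduct
noncomputable section

namespace Groth.L17.SchemeTheta

variable {X : Scheme.{u}}

/-- Induction on quasi-compact opens of a quasi-separated scheme. -/
theorem qc_induction [QuasiSeparatedSpace X] (P : X.Opens → Prop) (haff : ∀ U, IsAffineOpen U → P U)
    (hsup : ∀ U V : X.Opens, P U → P V → P (U ⊓ V) → P (U ⊔ V)) {W : X.Opens} (hW : IsCompact (W : Set X)) :
    P W := by
  classical
  have hle : ∀ {U W : X.Opens}, IsAffineOpen U → W ≤ U → IsCompact (W : Set X) → P W := by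
    intro U W hU hWU hW
    have key : ∀ (k : ℕ) (t : Finset Γ(X, U)), t.card ≤ k → P (t.sup fun g => X.basicOpen g) := by
      intro k
      induction k with
      | zero =>
        intro t ht
        rw [Finset.card_eq_zero.1 (Nat.le_zero.1 ht), Finset.sup_empty]
        exact haff _ (isAffineOpen_bot X)
      | succ k ih =>
        intro t ht
        rcases t.eq_empty_or_nonempty with rfl | ⟨g, hg⟩
        · exact ih ∅ (Nat.zero_le _)
        have hcard : (t.erase g).card ≤ k := by
          rw [Finset.card_erase_of_mem hg]; omega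
        rw [← Finset.insert_erase hg, Finset.sup_insert, sup_comm]
        refine hsup _ _ (ih _ hcard) (haff _ (hU.basicOpen g)) ?_
        have he : ((t.erase g).sup fun g => X.basicOpen g) ⊓ X.basicOpen g =
            ((t.erase g).image (g * ·)).sup fun g => X.basicOpen g := by
          rw [Finset.sup_image, Finset.sup_inf_distrib_right]
          exact Finset.sup_congr rfl fun a _ => by rw [Function.comp_apply, Scheme.basicOpen_mul, inf_comm]
        rw [he]
        exact ih _ (Finset.card_image_le.trans hcard)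
    have hW' : ∃ t : Finset Γ(X, U), W = t.sup fun g => X.basicOpen g := by
      have hloc : ∀ x : W, ∃ g : Γ(X, U), X.basicOpen g ≤ W ∧ x.1 ∈ X.basicOpen g := fun x =>
        hU.exists_basicOpen_le x (hWU x.2)
      choose g hgW hxg using hloc
      obtain ⟨T, hT⟩ := hW.elim_finite_subcover (fun x : W => (X.basicOpen (g x) : Set X))
        (fun x => (X.basicOpen (g x)).2) (fun x hx => Set.mem_iUnion.2 ⟨⟨x, hx⟩, hxg ⟨x, hx⟩⟩)
      refine ⟨T.image g, le_antisymm (fun x hx => ?_) (Finset.sup_le fun a ha => ?_)⟩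
      · obtain ⟨y, hy, hxy⟩ := Set.mem_iUnion₂.1 (hT hx)
        exact Finset.le_sup (f := fun a => X.basicOpen a) (Finset.mem_image_of_mem g hy) hxy
      · obtain ⟨y, _, rfl⟩ := Finset.mem_image.1 ha
        exact hgW y
    obtain ⟨t, rfl⟩ := hW'
    exact key t.card t le_rfl
  refine compact_open_induction_on W hW (haff _ (isAffineOpen_bot X)) fun W' hW' U hP => ?_
  refine hsup _ _ hP (haff _ U.2) ?_
  exact hle U.2 inf_le_right
    (QuasiSeparatedSpace.inter_isCompact _ _ W'.isOpen hW' U.1.isOpen U.2.isCompact)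

/-- The action of a ring on the sheaf of abelian groups of a module. -/
def actEnd {A : Type u} [CommRing A] (ρ : A →+* Coh.Γtop X) (M : X.Modules) : A →+* End (Coh.toAb M) where
  toFun a := Coh.smulAb M (ρ a)
  map_one' := by rw [map_one]; exact Coh.smulAb_one M
  map_mul' a b := by rw [map_mul]; exact Coh.smulAb_mul M _ _
  map_zero' := by rw [map_zero]; exact Coh.smulAb_zero M
  map_add' a b := by rw [map_add]; exact Coh.smulAb_add M _ _

open Groth.L17.SheafTheta

variable {X' : Scheme.{u}} (g : X' ⟶ X) {A B : Type u} [CommRing A] [CommRing B]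
  {F : X.Modules} {G : X'.Modules} (ρ : A →+* Coh.Γtop X) (ρ' : B →+* Coh.Γtop X')
  {N : Type u} [AddCommGroup N] [Module A N] [Module B N] [SMulCommClass A B N] [Module.Flat A N]
  (φ : N →+ (Coh.toAb F ⟶ (SheafTheta.pushAb (X := X.toTopCat) (X' := X'.toTopCat) g.base).obj (Coh.toAb G)))

/-- The sections-level hypothesis on an affine open. -/
def BijOn (W : X.Opens) : Prop :=
  ∃ b : N ⊗[A] BC.Sec ρ F W →+ Γ(G, g ⁻¹ᵁ W), Function.Bijective b ∧
    ∀ (n : N) (m : BC.Sec ρ F W), b (n ⊗ₜ m) = (φ n).hom.app (op W) m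

variable (hA : ∀ (a : A) (n : N), φ (a • n) = Coh.smulAb F (ρ a) ≫ φ n)
  (hB : ∀ (b : B) (n : N), φ (b • n) =
    φ n ≫ (SheafTheta.pushAb (X := X.toTopCat) (X' := X'.toTopCat) g.base).map (Coh.smulAb G (ρ' b)))
  [QuasiSeparatedSpace X]

include hA in
/-- The comparison is bijective on every quasi-compact open. -/
theorem bijective_Th [Coh.IsQCoh F] [Coh.IsQCoh G] [IsAffineHom g]
    (hbij : ∀ W : X.Opens, IsAffineOpen W → BijOn g ρ φ W) {W : X.Opens} (hW : IsCompact (W : Set X)) (q : ℕ) :
    Function.Bijective (Th (X := X.toTopCat) (X' := X'.toTopCat) g.base (actEnd ρ F) φ hA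
      (U := W) (U' := g ⁻¹ᵁ W) le_rfl q) := by
  revert q
  refine qc_induction (fun W => ∀ q, Function.Bijective (Th (X := X.toTopCat) (X' := X'.toTopCat) g.base
    (actEnd ρ F) φ hA (U := W) (U' := g ⁻¹ᵁ W) le_rfl q)) (fun W hW q => ?_) (fun U V hU hV hI q => ?_) hW
  · cases q with
    | zero =>
      obtain ⟨b, hb, hbe⟩ := hbij W hW
      refine bijective_Th_zero (X := X.toTopCat) (X' := X'.toTopCat) g.base (actEnd ρ F) φ hA le_rfl
        (M := BC.Sec ρ F W) (AddEquiv.refl Γ(F, W)) (fun a m => ?_) b (fun n m => ?_) hb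
      · exact (Coh.smulAb_app F (ρ a) (op W) m).symm
      · refine (hbe n m).trans ?_
        exact (Groth.L18.Frame.rs_self G le_rfl _).symm
    | succ k =>
      exact bijective_Th_of_zero _ _ φ hA _ _ (hu_affine_eq_zero F hW k)
        (hu_affine_eq_zero G (hW.preimage g) k)
  · have e1 : g ⁻¹ᵁ (U ⊓ V) = g ⁻¹ᵁ U ⊓ g ⁻¹ᵁ V := rfl
    have e2 : g ⁻¹ᵁ (U ⊔ V) = g ⁻¹ᵁ U ⊔ g ⁻¹ᵁ V := rfl
    exact bijective_Th_congr _ _ φ hA rfl e2.symm _ _ q
      (bijective_Th_sup (X := X.toTopCat) (X' := X'.toTopCat) g.base (actEnd ρ F) φ hA le_rfl le_rfl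
        e1.ge e2.ge hU hV (fun n => bijective_Th_congr _ _ φ hA rfl e1 _ _ n (hI n)) q)

include hA hB in
/-- The comparison of cohomology, linearly. -/
theorem exists_cohom_equiv [CompactSpace X] [Coh.IsQCoh F] [Coh.IsQCoh G] [IsAffineHom g]
    (hbij : ∀ W : X.Opens, IsAffineOpen W → BijOn g ρ φ W) (q : ℕ) :
    letI : Module A (Coh.HH X F q) := Module.compHom _ ρ
    letI : Module B (Coh.HH X' G q) := Module.compHom _ ρ'
    Nonempty (N ⊗[A] Coh.HH X F q ≃ₗ[B] Coh.HH X' G q) := by
  letI : Module A (Coh.HH X F q) := Module.compHom _ ρ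
  letI : Module B (Coh.HH X' G q) := Module.compHom _ ρ'
  have hb := bijective_Th g ρ φ hA hbij (W := ⊤) isCompact_univ q
  let T := Th (X := X.toTopCat) (X' := X'.toTopCat) g.base (actEnd ρ F) φ hA
    (U := (⊤ : X.Opens)) (U' := g ⁻¹ᵁ (⊤ : X.Opens)) le_rfl q
  let e₁ : Coh.HH X F q ≃ₗ[A] ExtTheta.EA (actEnd ρ F) (zFree (X := X.toTopCat) ⊤) q :=
    { (hTopEquiv (X := X.toTopCat) (Coh.toAb F) q) with
      map_smul' := fun a x => (Ext.comp_assoc_of_third_deg_zero _ x _ (zero_add q)).symm }
  let e₂ : Coh.HH X' G q ≃+ HU (X := X'.toTopCat) (g ⁻¹ᵁ (⊤ : X.Opens)) (Coh.toAb G) q :=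
    hTopEquiv (X := X'.toTopCat) (Coh.toAb G) q
  have he₂ : ∀ (s : Coh.toAb G ⟶ Coh.toAb G) (y : HU (X := X'.toTopCat) (g ⁻¹ᵁ (⊤ : X.Opens)) (Coh.toAb G) q),
      e₂.symm (y.comp (Ext.mk₀ s) (add_zero q)) = Sheaf.H.map s q (e₂.symm y) := fun s y =>
    (Ext.comp_assoc_of_third_deg_zero _ _ _ (zero_add q)).symm
  let E : N ⊗[A] Coh.HH X F q ≃+ Coh.HH X' G q :=
    (TensorProduct.congr (LinearEquiv.refl A N) e₁).toAddEquiv.trans
      ((AddEquiv.ofBijective T hb).trans e₂.symm)
  refine ⟨{ E with map_smul' := fun b z => ?_ }⟩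
  change e₂.symm (T (TensorProduct.congr (LinearEquiv.refl A N) e₁ (b • z))) =
    ρ' b • e₂.symm (T (TensorProduct.congr (LinearEquiv.refl A N) e₁ z))
  haveI := SMulCommClass.symm A B N
  let mb : N →ₗ[A] N :=
    { toFun := fun n => b • n, map_add' := smul_add b, map_smul' := fun a n => smul_comm b a n }
  have h1 : TensorProduct.congr (LinearEquiv.refl A N) e₁ (b • z) =
      mb.rTensor _ (TensorProduct.congr (LinearEquiv.refl A N) e₁ z) := by
    induction z using TensorProduct.induction_on with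
    | zero => simp
    | add x y hx hy => simp only [smul_add, map_add, hx, hy]
    | tmul n x => rw [TensorProduct.smul_tmul']; rfl
  have h2 : ∀ n, transp (X := X.toTopCat) (X' := X'.toTopCat) g.base φ (mb n) =
      transp (X := X.toTopCat) (X' := X'.toTopCat) g.base φ n ≫ Coh.smulAb G (ρ' b) := fun n => by
    change (pullAb _).map (φ (b • n)) ≫ _ = ((pullAb _).map (φ n) ≫ _) ≫ _
    rw [hB, Functor.map_comp, Category.assoc, Category.assoc]
    exact congrArg _ ((adj (X := X.toTopCat) (X' := X'.toTopCat) g.base).counit.naturality _)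
  rw [h1]
  refine (congrArg e₂.symm (ExtTheta.θ_postcomp (actEnd ρ F) q _ _ _ _ (Coh.smulAb G (ρ' b)) mb h2 _)).trans ?_
  exact he₂ _ _

end Groth.L17.SchemeTheta
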