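import Groth.Agent.L17.FlatBase.ExtTheta
import Groth.Agent.L17.SheafExt
import Groth.Agent.L10.TopCoh
import Mathlib.Topology.Sheaves.MayerVietoris
import Mathlib.Topology.Sheaves.Functors

/-!
Comparison maps `N ⊗ H^q(U, F) → H^q(U', G)` for sheaves on two spaces, with Mayer–Vietoris.
-/

set_option autoImplicit false
set_option backward.isDefEq.respectTransparency false

universe u

open CategoryTheory CategoryTheory.Limits TopologicalSpace Opposite Abelian TensorProduct
noncomputable section

namespace Groth.L17.SheafTheta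

variable {X X' : TopCat.{u}} (g : X' ⟶ X)

/-- Inverse image of abelian sheaves. -/
abbrev pullAb : AbSheaf X ⥤ AbSheaf X' := CohTop.pull g

/-- Direct image of abelian sheaves. -/
abbrev pushAb : AbSheaf X' ⥤ AbSheaf X := CohTop.push g

/-- The adjunction. -/
abbrev adj : pullAb g ⊣ pushAb g := TopCat.Sheaf.pullbackPushforwardAdjunction AddCommGrpCat.{u} g

instance preservesFiniteLimits_pullAb : PreservesFiniteLimits (pullAb g) :=
  Groth.L10.TopCoh.pull_preservesFiniteLimits g

instance : (pullAb g).IsLeftAdjoint := (adj g).isLeftAdjoint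

instance additive_pullAb : (pullAb g).Additive :=
  have := preservesBinaryBiproducts_of_preservesBinaryProducts (pullAb g)
  Functor.additive_of_preservesBinaryBiproducts _

variable {U V : Opens X} {U' V' : Opens X'}

/-- The canonical map of free sheaves. -/
def cMap (h : U' ≤ (Opens.map g).obj U) : zFree U' ⟶ (pullAb g).obj (zFree U) :=
  (zEquiv U' _).symm (((pullAb g).obj (zFree U)).obj.map (homOfLE h).op
    (((adj g).unit.app (zFree U)).hom.app (op U) (zEquiv U _ (𝟙 _))))

theorem zEquiv_cMap (h : U' ≤ (Opens.map g).obj U) {G : AbSheaf X'} (k : zFree U ⟶ (pushAb g).obj G) :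
    zEquiv U' G (cMap g h ≫ ((adj g).homEquiv _ _).symm k) =
      G.obj.map (homOfLE h).op (zEquiv U ((pushAb g).obj G) k) := by
  rw [zEquiv_comp, cMap, Equiv.apply_symm_apply]
  refine (NatTrans.naturality_apply (((adj g).homEquiv _ _).symm k).hom (homOfLE h).op _).trans ?_
  refine congrArg (G.obj.map (homOfLE h).op) ?_
  have e : (adj g).unit.app (zFree U) ≫ (pushAb g).map (((adj g).homEquiv _ _).symm k) = k := by
    exact ((adj g).homEquiv_unit _ _ _).symm.trans (Equiv.apply_symm_apply _ _)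
  calc (((adj g).homEquiv _ _).symm k).hom.app (op ((Opens.map g).obj U))
        (((adj g).unit.app (zFree U)).hom.app (op U) (zEquiv U _ (𝟙 _)))
      = ((adj g).unit.app (zFree U) ≫ (pushAb g).map (((adj g).homEquiv _ _).symm k)).hom.app (op U)
          (zEquiv U _ (𝟙 _)) := rfl
    _ = zEquiv U _ (𝟙 _ ≫ k) := by rw [e, zEquiv_comp]; rfl
    _ = zEquiv U _ k := by rw [Category.id_comp]

theorem cMap_zMap (h : U' ≤ (Opens.map g).obj U) (h' : V' ≤ (Opens.map g).obj V) (e : V ≤ U) (e' : V' ≤ U') :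
    cMap g h' ≫ (pullAb g).map (zMap e) = zMap e' ≫ cMap g h := by
  have hid : (pullAb g).map (zMap e) = ((adj g).homEquiv _ _).symm (zMap e ≫ (adj g).unit.app (zFree U)) := by
    rw [Equiv.eq_symm_apply, Adjunction.homEquiv_unit]
    exact ((adj g).unit.naturality (zMap e)).symm
  apply (zEquiv V' _).injective
  rw [hid, zEquiv_cMap, zEquiv_zMap, zEquiv_zMap, cMap, Equiv.apply_symm_apply]
  have key : ∀ t, ((pushAb g).obj ((pullAb g).obj (zFree U))).obj.map (homOfLE e).op t =
      ((pullAb g).obj (zFree U)).obj.map ((Opens.map g).map (homOfLE e)).op t := fun t => rfl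
  rw [key, ← ConcreteCategory.comp_apply, ← ConcreteCategory.comp_apply, ← Functor.map_comp, ← Functor.map_comp]
  congr 1

section Data

variable {A : Type u} [CommRing A] {F : AbSheaf X} {G : AbSheaf X'} (ρ : A →+* End F)
  {N : Type u} [AddCommGroup N] [Module A N] (φ : N →+ (F ⟶ (pushAb g).obj G))

/-- The transposed family. -/
def transp : N →+ ((pullAb g).obj F ⟶ G) :=
  AddMonoidHom.mk' (fun n => (pullAb g).map (φ n) ≫ (adj g).counit.app G)
    fun a b => by rw [map_add, Functor.map_add, Preadditive.add_comp]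

variable (hφ : ∀ (a : A) (n : N), φ (a • n) = ρ a ≫ φ n)

include hφ in
theorem transp_smul (a : A) (n : N) : transp g φ (a • n) = (pullAb g).map (ρ a) ≫ transp g φ n := by
  change (pullAb g).map (φ (a • n)) ≫ _ = _ ≫ (pullAb g).map (φ n) ≫ _
  rw [hφ, Functor.map_comp, Category.assoc]

/-- The comparison map. -/
def Th (h : U' ≤ (Opens.map g).obj U) (q : ℕ) : N ⊗[A] ExtTheta.EA ρ (zFree U) q →+ HU U' G q :=
  ExtTheta.θ ρ q (pullAb g) (transp g φ) (transp_smul g ρ φ hφ) (cMap g h)

theorem hu₀_Th (h : U' ≤ (Opens.map g).obj U) (n : N) (x : ExtTheta.EA ρ (zFree U) 0) :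
    hu₀ U' G (Th g ρ φ hφ h 0 (n ⊗ₜ x)) =
      G.obj.map (homOfLE h).op ((φ n).hom.app (op U) (hu₀ U F (ExtTheta.EA.cls ρ 0 x))) := by
  obtain ⟨f, hf⟩ := (Ext.mk₀_bijective _ _).2 (ExtTheta.EA.cls ρ 0 x)
  rw [Th, ExtTheta.θ_tmul, ← hf, Ext.mapExactFunctor_mk₀, Ext.mk₀_comp_mk₀, Ext.mk₀_comp_mk₀, hu₀_mk₀, hu₀_mk₀]
  have e : (pullAb g).map f ≫ transp g φ n = ((adj g).homEquiv _ _).symm (f ≫ φ n) := by
    rw [Adjunction.homEquiv_counit, Functor.map_comp, Category.assoc]
    rfl
  rw [e, zEquiv_cMap, zEquiv_comp]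

/-- Bijectivity in degree zero, from sections. -/
theorem bijective_Th_zero (h : U' ≤ (Opens.map g).obj U) {M : Type u} [AddCommGroup M] [Module A M]
    (L : M ≃+ F.obj.obj (op U)) (hL : ∀ (a : A) (m : M), L (a • m) = (ρ a).hom.app (op U) (L m))
    (B : N ⊗[A] M →+ G.obj.obj (op U'))
    (hB : ∀ (n : N) (m : M), B (n ⊗ₜ m) = G.obj.map (homOfLE h).op ((φ n).hom.app (op U) (L m)))
    (hb : Function.Bijective B) : Function.Bijective (Th g ρ φ hφ h 0) := by
  let e₀ : ExtTheta.EA ρ (zFree U) 0 ≃+ M := AddEquiv.trans (hu₀ U F) L.symm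
  have he₀ : ∀ (a : A) x, e₀ (a • x) = a • e₀ x := fun a x => by
    apply L.injective
    rw [hL]
    simp only [e₀, AddEquiv.trans_apply, AddEquiv.apply_symm_apply]
    rw [ExtTheta.smul_def]
    exact hu₀_map (ρ a) _
  let e : ExtTheta.EA ρ (zFree U) 0 ≃ₗ[A] M := { e₀ with map_smul' := he₀ }
  let E := TensorProduct.congr (LinearEquiv.refl A N) e
  have key : ∀ z, Th g ρ φ hφ h 0 z = (hu₀ U' G).symm (B (E z)) := fun z => by
    induction z using TensorProduct.induction_on with
    | zero => simp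
    | add x y hx hy => simp only [map_add, hx, hy]
    | tmul n x =>
      rw [AddEquiv.eq_symm_apply, hu₀_Th, TensorProduct.congr_tmul, hB]
      congr 2
      change _ = L (L.symm _)
      rw [AddEquiv.apply_symm_apply]
      rfl
  rw [show ⇑(Th g ρ φ hφ h 0) = (hu₀ U' G).symm ∘ B ∘ E from funext key]
  exact (hu₀ U' G).symm.bijective.comp (hb.comp E.bijective)

/-- Bijectivity when both sides vanish. -/
theorem bijective_Th_of_zero (h : U' ≤ (Opens.map g).obj U) (q : ℕ)
    (hF : ∀ x : HU U F q, x = 0) (hG : ∀ x : HU U' G q, x = 0) :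
    Function.Bijective (Th g ρ φ hφ h q) :=
  haveI : Subsingleton (ExtTheta.EA ρ (zFree U) q) := ⟨fun a b => (hF a).trans (hF b).symm⟩
  haveI : Subsingleton (N ⊗[A] ExtTheta.EA ρ (zFree U) q) := subsingleton_of_forall_eq 0 fun z => by
    induction z using TensorProduct.induction_on with
    | zero => rfl
    | add x y hx hy => rw [hx, hy, add_zero]
    | tmul n x => rw [Subsingleton.elim x 0, TensorProduct.tmul_zero]
  ⟨fun _ _ _ => Subsingleton.elim _ _, fun y => ⟨0, by rw [map_zero, hG y]⟩⟩

theorem bijective_Th_congr {U₂ : Opens X} {U₂' : Opens X'} (eU : U = U₂) (eU' : U' = U₂')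
    (h : U' ≤ (Opens.map g).obj U) (h₂ : U₂' ≤ (Opens.map g).obj U₂) (q : ℕ)
    (hb : Function.Bijective (Th g ρ φ hφ h q)) : Function.Bijective (Th g ρ φ hφ h₂ q) := by
  subst eU eU'
  exact hb

variable [Module.Flat A N]

/-- Mayer–Vietoris. -/
theorem bijective_Th_sup (hU : U' ≤ (Opens.map g).obj U) (hV : V' ≤ (Opens.map g).obj V)
    (hI : U' ⊓ V' ≤ (Opens.map g).obj (U ⊓ V)) (hS : U' ⊔ V' ≤ (Opens.map g).obj (U ⊔ V))
    (bU : ∀ n, Function.Bijective (Th g ρ φ hφ hU n)) (bV : ∀ n, Function.Bijective (Th g ρ φ hφ hV n))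
    (bI : ∀ n, Function.Bijective (Th g ρ φ hφ hI n)) (q : ℕ) :
    Function.Bijective (Th g ρ φ hφ hS q) := by
  let S := (Opens.mayerVietorisSquare U V).shortComplex
  let S' := (Opens.mayerVietorisSquare U' V').shortComplex
  let τ : S' ⟶ S.map (pullAb g) :=
    { τ₁ := cMap g hI
      τ₂ := biprod.desc (cMap g hU ≫ (pullAb g).map biprod.inl) (cMap g hV ≫ (pullAb g).map biprod.inr)
      τ₃ := cMap g hS
      comm₁₂ := by
        change cMap g hI ≫ (pullAb g).map (biprod.lift (zMap inf_le_left) (-zMap inf_le_right)) =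
          biprod.lift (zMap inf_le_left) (-zMap inf_le_right) ≫ biprod.desc _ _
        rw [biprod.lift_desc, biprod.lift_eq, Functor.map_add, Preadditive.comp_add, Functor.map_comp,
          Functor.map_comp, Functor.map_neg, Preadditive.neg_comp, Preadditive.comp_neg, Preadditive.neg_comp,
          ← Category.assoc, ← Category.assoc, cMap_zMap g hU hI inf_le_left inf_le_left,
          cMap_zMap g hV hI inf_le_right inf_le_right, Category.assoc, Category.assoc]
        rfl
      comm₂₃ := by
        change biprod.desc _ _ ≫ (pullAb g).map (biprod.desc (zMap le_sup_left) (zMap le_sup_right)) =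
          biprod.desc (zMap le_sup_left) (zMap le_sup_right) ≫ cMap g hS
        refine biprod.hom_ext' _ _ ?_ ?_
        · rw [biprod.inl_desc_assoc, biprod.inl_desc_assoc, Category.assoc, ← Functor.map_comp, biprod.inl_desc]
          exact cMap_zMap g hS hU le_sup_left le_sup_left
        · rw [biprod.inr_desc_assoc, biprod.inr_desc_assoc, Category.assoc, ← Functor.map_comp, biprod.inr_desc]
          exact cMap_zMap g hS hV le_sup_right le_sup_right }
  exact ExtTheta.bijective_θ_three ρ (pullAb g) (transp g φ) (transp_smul g ρ φ hφ)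
    (Opens.mayerVietorisSquare U V).shortComplex_shortExact
    (Opens.mayerVietorisSquare U' V').shortComplex_shortExact τ q bI
    (fun n => ExtTheta.bijective_θ_biprod ρ n (pullAb g) (transp g φ) (transp_smul g ρ φ hφ) (bU n) (bV n))

end Data

end Groth.L17.SheafTheta
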